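import Cfsg.Agent.BSWall.Combin
import Mathlib.Tactic.FieldSimp
import Mathlib.Tactic.LinearCombination
import Mathlib.Tactic.IntervalCases
import Mathlib.Data.Rat.Cast.Order
import Mathlib.Algebra.Order.Field.Rat

/-!
# Rows of norm four: the integer combinatorics
-/

set_option autoImplicit false

namespace Cfsg.Agent.FourCentral

variable {ι Ψ : Type*} [Fintype ι] [DecidableEq ι] [Fintype Ψ] [DecidableEq Ψ]

/-- `c ψ x` is the `ψ`-coefficient of the irreducible character `x` on the section of the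
involution. -/
structure Rows (o : ι) (p0 : Ψ) (c : Ψ → ι → ℤ) (d T : ι → ℤ) (e : Ψ → ℤ) (σ : ι → ι) (τ : Ψ → Ψ)
    (κ : ℚ) : Prop where
  dpos : ∀ x, 0 < d x
  dge : ∀ x, x ≠ o → 2 ≤ d x
  degO : d o = 1
  colO : ∀ ψ, c ψ o = if ψ = p0 then 1 else 0
  epos : ∀ ψ, 0 < e ψ
  eOne : e p0 = 1
  par : ∀ ψ ψ', ∑ x, c ψ x * c ψ' x = if ψ = ψ' then 4 else 0
  deg : ∀ ψ, ∑ x, c ψ x * d x = 0
  val : ∀ x, T x = ∑ ψ, e ψ * c ψ x
  weight : ∀ ψ, ∑ x, ((T x * T x * c ψ x : ℤ) : ℚ) / (d x : ℚ) = κ * (e ψ : ℚ)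
  invS : ∀ x, σ (σ x) = x
  invT : ∀ ψ, τ (τ ψ) = ψ
  fixO : σ o = o
  fixP : τ p0 = p0
  moveT : ∀ ψ, ψ ≠ p0 → τ ψ ≠ ψ
  coefConj : ∀ ψ x, c (τ ψ) (σ x) = c ψ x
  degConj : ∀ x, d (σ x) = d x
  econj : ∀ ψ, e (τ ψ) = e ψ
  kpos : 0 < κ

namespace Rows

variable {o : ι} {p0 : Ψ} {c : Ψ → ι → ℤ} {d T : ι → ℤ} {e : Ψ → ℤ} {σ : ι → ι} {τ : Ψ → Ψ} {κ : ℚ}
variable (H : Rows o p0 c d T e σ τ κ)
include H

theorem exists_three : ∃ S : Finset ι, S.card = 3 ∧ o ∉ S ∧
    (∀ x ∈ S, c p0 x = 1 ∨ c p0 x = -1) ∧ (∀ x, x ∉ S → x ≠ o → c p0 x = 0) ∧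
    ∀ x ∈ S, σ x ∈ S ∧ c p0 (σ x) = c p0 x := by
  have h1 : c p0 o = 1 := by rw [H.colO, if_pos rfl]
  have hn : ∑ x, (if x = o then 0 else c p0 x) * (if x = o then 0 else c p0 x) = 3 := by
    have e0 := H.par p0 p0
    rw [if_pos rfl, ← Finset.add_sum_erase _ _ (Finset.mem_univ o), h1] at e0
    rw [← Finset.add_sum_erase _ _ (Finset.mem_univ o), if_pos rfl,
      Finset.sum_congr rfl (fun x hx => by rw [if_neg (Finset.ne_of_mem_erase hx)])]
    linarith
  have hs := BSWall.card_support hn.le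
  rw [hn] at hs
  refine ⟨_, (by exact_mod_cast hs), by simp, ?_, ?_, ?_⟩
  · intro x hx
    simp only [Finset.mem_filter, Finset.mem_univ, true_and] at hx
    have hxo : x ≠ o := fun e => hx (if_pos e)
    rw [if_neg hxo] at hx
    have := (BSWall.coeff_small hn.le x).resolve_left (by rwa [if_neg hxo])
    rwa [if_neg hxo] at this
  · intro x hx hxo
    simpa [hxo] using hx
  · intro x hx
    have hc : c p0 (σ x) = c p0 x := by
      have := H.coefConj p0 x
      rwa [H.fixP] at this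
    refine ⟨?_, hc⟩
    simp only [Finset.mem_filter, Finset.mem_univ, true_and] at hx ⊢
    have hxo : x ≠ o := fun e => hx (if_pos e)
    have hso : σ x ≠ o := fun e => hxo (by rw [← H.invS x, e, H.fixO])
    rw [if_neg hxo] at hx
    rwa [if_neg hso, hc]

theorem row_unit {ψ : Ψ} (x : ι) : c ψ x = 0 ∨ c ψ x = 1 ∨ c ψ x = -1 := by
  have h1 := H.par ψ ψ
  rw [if_pos rfl] at h1
  have hle : c ψ x * c ψ x ≤ 4 :=
    h1 ▸ Finset.single_le_sum (f := fun y => c ψ y * c ψ y) (fun y _ => mul_self_nonneg _)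
      (Finset.mem_univ x)
  have h2 : c ψ x ≤ 2 := by nlinarith
  have h3 : -2 ≤ c ψ x := by nlinarith
  by_contra hc
  have hsq : c ψ x * c ψ x = 4 := by
    rcases (show c ψ x = 2 ∨ c ψ x = -2 by omega) with e | e <;> rw [e] <;> norm_num
  have hz : ∀ y ∈ Finset.univ.erase x, c ψ y * c ψ y = 0 := by
    have h4 : ∑ y ∈ Finset.univ.erase x, c ψ y * c ψ y = 0 := by
      rw [← Finset.add_sum_erase _ _ (Finset.mem_univ x), hsq] at h1
      linarith
    exact (Finset.sum_eq_zero_iff_of_nonneg (fun y _ => mul_self_nonneg _)).1 h4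
  have h5 := H.deg ψ
  rw [← Finset.add_sum_erase _ _ (Finset.mem_univ x),
    Finset.sum_eq_zero (fun y hy => by rw [mul_self_eq_zero.1 (hz y hy), zero_mul]), add_zero,
    mul_eq_zero] at h5
  rcases h5 with e | e
  · omega
  · exact (H.dpos x).ne' e

theorem row_card (ψ : Ψ) : ({x | c ψ x ≠ 0} : Finset ι).card = 4 := by
  have h1 := H.par ψ ψ
  rw [if_pos rfl] at h1
  have : ((({x | c ψ x ≠ 0} : Finset ι).card : ℤ)) = 4 := by
    rw [← h1, Finset.card_filter]
    push_cast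
    refine Finset.sum_congr rfl fun x _ => ?_
    rcases H.row_unit (ψ := ψ) x with e | e | e <;> simp [e]
  exact_mod_cast this

theorem self_conj {ψ : Ψ} (hψ : ψ ≠ p0) : ∑ x, c ψ x * c ψ (σ x) = 0 := by
  have h1 := H.par (τ ψ) ψ
  rw [if_neg (H.moveT ψ hψ)] at h1
  rw [← h1]
  refine Finset.sum_congr rfl fun x _ => ?_
  rw [mul_comm]
  congr 1
  rw [← H.coefConj ψ (σ x), H.invS]

/-- The overlap of a row with the three exceptional characters. -/
theorem overlap {S : Finset ι} (hS : S.card = 3) (hoS : o ∉ S)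
    (hS1 : ∀ x ∈ S, c p0 x = 1 ∨ c p0 x = -1) (hS0 : ∀ x, x ∉ S → x ≠ o → c p0 x = 0)
    {ψ : Ψ} (hψ : ψ ≠ p0) {x : ι} (hx : x ∈ S) (hxψ : c ψ x ≠ 0) :
    ∃ y ∈ S, y ≠ x ∧ c p0 x * c ψ x + c p0 y * c ψ y = 0 ∧ c ψ y ≠ 0 ∧
      ∀ z ∈ S, z ≠ x → z ≠ y → c ψ z = 0 := by
  have h1 := H.par p0 ψ
  rw [if_neg (Ne.symm hψ), ← Finset.sum_subset (Finset.subset_univ S) (fun z _ hz => by
    by_cases hzo : z = o
    · subst hzo; rw [H.colO ψ, if_neg hψ, mul_zero]
    · rw [hS0 z hz hzo, zero_mul]), ← Finset.add_sum_erase _ _ hx] at h1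
  have hcard : (S.erase x).card = 2 := by rw [Finset.card_erase_of_mem hx, hS]
  obtain ⟨u, v, huv, he⟩ := Finset.card_eq_two.1 hcard
  rw [he, Finset.sum_pair huv] at h1
  have hu : u ≠ x ∧ u ∈ S := by
    have : u ∈ S.erase x := by simp [he]
    simpa using this
  have hv : v ≠ x ∧ v ∈ S := by
    have : v ∈ S.erase x := by simp [he]
    simpa using this
  have hz : ∀ z ∈ S, z ≠ x → z = u ∨ z = v := fun z hz hzx => by
    have : z ∈ S.erase x := by simp [hz, hzx]
    simpa [he] using this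
  rcases H.row_unit (ψ := ψ) u with eu | eu
  · refine ⟨v, hv.2, hv.1, by rw [eu, mul_zero, zero_add] at h1; linarith, ?_,
      fun z hz' hzx hzv => by rw [(hz z hz' hzx).resolve_right hzv]; exact eu⟩
    intro ev
    simp only [eu, ev, mul_zero, add_zero] at h1
    rw [mul_eq_zero] at h1
    rcases h1 with e | e
    · rcases hS1 x hx with e' | e' <;> omega
    · exact hxψ e
  · have ev : c ψ v = 0 := by
      rcases H.row_unit (ψ := ψ) v with ev | ev
      · exact ev
      · exfalso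
        have hx' := (H.row_unit (ψ := ψ) x).resolve_left hxψ
        rcases hS1 x hx with a1 | a1 <;> rcases hS1 u hu.2 with a2 | a2 <;>
          rcases hS1 v hv.2 with a3 | a3 <;> rcases hx' with a4 | a4 <;>
          rcases eu with a5 | a5 <;> rcases ev with a6 | a6 <;>
          rw [a1, a2, a3, a4, a5, a6] at h1 <;> omega
    refine ⟨u, hu.2, hu.1, by rw [ev, mul_zero, add_zero] at h1; linarith, ?_,
      fun z hz' hzx hzu => by rw [(hz z hz' hzx).resolve_left hzu]; exact ev⟩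
    rcases eu with e | e <;> rw [e] <;> norm_num

/-- The structure of an overlapping row. -/
theorem overlap_conj {S : Finset ι} (hS : S.card = 3) (hoS : o ∉ S)
    (hS1 : ∀ x ∈ S, c p0 x = 1 ∨ c p0 x = -1) (hS0 : ∀ x, x ∉ S → x ≠ o → c p0 x = 0)
    (hSσ : ∀ x ∈ S, σ x ∈ S ∧ c p0 (σ x) = c p0 x)
    {ψ : Ψ} (hψ : ψ ≠ p0) {x : ι} (hx : x ∈ S) (hxψ : c ψ x ≠ 0) :
    (σ x ≠ x → c ψ (σ x) = -c ψ x) ∧
      (σ x = x → ∃ y ∈ S, y ≠ x ∧ σ y = y ∧ c p0 y = c p0 x ∧ d y = d x ∧ c ψ y = -c ψ x ∧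
        κ * (e ψ : ℚ) = ((T x * T x - T y * T y) * c ψ x : ℤ) / (d x : ℚ)) := by
  -- a moved element overlaps with its conjugate
  have moved : ∀ {x}, x ∈ S → c ψ x ≠ 0 → σ x ≠ x → c ψ (σ x) = -c ψ x := by
    intro x hx hxψ hσx
    obtain ⟨y, hy, hyx, hxy, hyψ, hrest⟩ := H.overlap hS hoS hS1 hS0 hψ hx hxψ
    have hax : c p0 x ≠ 0 := by rcases hS1 x hx with e | e <;> omega
    by_cases hyσ : y = σ x
    · rw [hyσ, (hSσ x hx).2, ← mul_add, mul_eq_zero] at hxy
      linarith [hxy.resolve_left hax]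
    exfalso
    have hσxψ : c ψ (σ x) = 0 := hrest _ (hSσ x hx).1 hσx (Ne.symm hyσ)
    have hσy : σ y = y := by
      by_contra hne
      have h3 : ({x, σ x, y, σ y} : Finset ι).card ≤ S.card := Finset.card_le_card (by
        intro z hz
        simp only [Finset.mem_insert, Finset.mem_singleton] at hz
        rcases hz with rfl | rfl | rfl | rfl
        exacts [hx, (hSσ x hx).1, hy, (hSσ y hy).1])
      rw [hS, Finset.card_insert_of_notMem, Finset.card_insert_of_notMem,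
        Finset.card_insert_of_notMem, Finset.card_singleton] at h3
      · omega
      · simp [Ne.symm hne]
      · simp only [Finset.mem_insert, Finset.mem_singleton, not_or]
        exact ⟨Ne.symm hyσ, fun e => hyx (by rw [← H.invS y, ← e, H.invS])⟩
      · simp only [Finset.mem_insert, Finset.mem_singleton, not_or]
        exact ⟨Ne.symm hσx, Ne.symm hyx, fun e => hyσ (by rw [e, H.invS])⟩
    obtain ⟨U, hU⟩ : ∃ U : Finset ι, U = ({z | c ψ z ≠ 0} : Finset ι) := ⟨_, rfl⟩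
    have hxU : x ∈ U := by simp [hU, hxψ]
    have hyU : y ∈ U.erase x := by simp [hU, hyψ, hyx]
    have hUc : ((U.erase x).erase y).card = 2 := by
      rw [Finset.card_erase_of_mem hyU, Finset.card_erase_of_mem hxU, hU, H.row_card]
    obtain ⟨p, q, hpq, hpq'⟩ := Finset.card_eq_two.1 hUc
    have h0 := H.self_conj hψ
    rw [← Finset.sum_subset (Finset.subset_univ U) (fun z _ hz => by
        simp [hU] at hz; rw [hz, zero_mul]),
      ← Finset.add_sum_erase _ _ hxU, ← Finset.add_sum_erase _ _ hyU, hpq', Finset.sum_pair hpq,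
      hσxψ, hσy, mul_zero, zero_add] at h0
    have hσ_mem : ∀ z, c ψ z ≠ 0 → z = x ∨ z = y ∨ z = p ∨ z = q := by
      intro z hz
      by_contra! hc
      have : z ∈ ({p, q} : Finset ι) := hpq' ▸ (by simp [hU, hz, hc.1, hc.2.1])
      simp [hc.2.2.1, hc.2.2.2] at this
    have hp : p ≠ x ∧ p ≠ y ∧ c ψ p ≠ 0 := by
      have : p ∈ (U.erase x).erase y := by simp [hpq']
      simp [hU] at this; tauto
    have hq : q ≠ x ∧ q ≠ y ∧ c ψ q ≠ 0 := by
      have : q ∈ (U.erase x).erase y := by simp [hpq']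
      simp [hU] at this; tauto
    have hy1 : c ψ y * c ψ y = 1 := by
      rcases (H.row_unit (ψ := ψ) y).resolve_left hyψ with e | e <;> rw [e] <;> norm_num
    have hσp : ∀ z, z ≠ x → z ≠ y → c ψ z ≠ 0 → c ψ (σ z) ≠ 0 → σ z = p ∨ σ z = q := by
      intro z h1 h2 h3 h4
      rcases hσ_mem _ h4 with e | e | e
      · exfalso
        rw [← H.invS z, e] at h3
        exact h3 hσxψ
      · exfalso
        exact h2 (by rw [← H.invS z, e, hσy])
      · exact e
    by_cases hp0 : c ψ (σ p) = 0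
    · rw [hp0, mul_zero, zero_add] at h0
      have hqσ : c ψ (σ q) ≠ 0 := fun e => by rw [e, mul_zero, add_zero] at h0; omega
      rcases hσp q hq.1 hq.2.1 hq.2.2 hqσ with e | e
      · rw [← e, H.invS] at hp0; exact hq.2.2 hp0
      · rw [e] at h0
        nlinarith [mul_self_nonneg (c ψ q)]
    · rcases hσp p hp.1 hp.2.1 hp.2.2 hp0 with e | e
      · rw [e] at h0
        have : c ψ q * c ψ (σ q) = -2 := by
          have hp1 : c ψ p * c ψ p = 1 := by
            rcases (H.row_unit (ψ := ψ) p).resolve_left hp.2.2 with e | e <;> rw [e] <;> norm_num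
          linarith
        rcases H.row_unit (ψ := ψ) q with e1 | e1 | e1 <;>
          rcases H.row_unit (ψ := ψ) (σ q) with e2 | e2 | e2 <;> rw [e1, e2] at this <;> omega
      · rw [e, show σ q = p by rw [← e, H.invS], hy1] at h0
        rcases H.row_unit (ψ := ψ) p with e1 | e1 | e1 <;>
          rcases H.row_unit (ψ := ψ) q with e2 | e2 | e2 <;> rw [e1, e2] at h0 <;> omega
  refine ⟨moved hx hxψ, fun hσx => ?_⟩
  obtain ⟨y, hy, hyx, hxy, hyψ, hrest⟩ := H.overlap hS hoS hS1 hS0 hψ hx hxψ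
  have hσy : σ y = y := by
    by_contra hne
    have h1 := moved hy hyψ hne
    have h2 : σ y ≠ x := fun e => hne (by
      have := H.invS y
      rw [e, hσx] at this
      rw [e, this])
    rw [hrest _ (hSσ y hy).1 h2 hne] at h1
    exact hyψ (by linarith)
  obtain ⟨U, hU⟩ : ∃ U : Finset ι, U = ({z | c ψ z ≠ 0} : Finset ι) := ⟨_, rfl⟩
  have hxU : x ∈ U := by simp [hU, hxψ]
  have hyU : y ∈ U.erase x := by simp [hU, hyψ, hyx]
  have hUc : ((U.erase x).erase y).card = 2 := by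
    rw [Finset.card_erase_of_mem hyU, Finset.card_erase_of_mem hxU, hU, H.row_card]
  obtain ⟨p, q, hpq, hpq'⟩ := Finset.card_eq_two.1 hUc
  have hsum : ∀ {M : Type} [AddCommMonoid M] (f : ι → M), (∀ z, c ψ z = 0 → f z = 0) →
      ∑ z, f z = f x + (f y + (f p + f q)) := by
    intro M _ f hf
    rw [← Finset.sum_subset (Finset.subset_univ U) (fun z _ hz => hf z (by simpa [hU] using hz)),
      ← Finset.add_sum_erase _ _ hxU, ← Finset.add_sum_erase _ _ hyU, hpq', Finset.sum_pair hpq]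
  have hp : p ≠ x ∧ p ≠ y ∧ c ψ p ≠ 0 := by
    have : p ∈ (U.erase x).erase y := by simp [hpq']
    simp [hU] at this; tauto
  have hq : q ≠ x ∧ q ≠ y ∧ c ψ q ≠ 0 := by
    have : q ∈ (U.erase x).erase y := by simp [hpq']
    simp [hU] at this; tauto
  have hx1 : c ψ x * c ψ x = 1 := by
    rcases (H.row_unit (ψ := ψ) x).resolve_left hxψ with e | e <;> rw [e] <;> norm_num
  have hy1 : c ψ y * c ψ y = 1 := by
    rcases (H.row_unit (ψ := ψ) y).resolve_left hyψ with e | e <;> rw [e] <;> norm_num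
  have h0 := H.self_conj hψ
  rw [hsum _ (fun z hz => by rw [hz, zero_mul]), hσx, hσy, hx1, hy1] at h0
  have hneg : c ψ p * c ψ (σ p) = -1 ∧ c ψ q * c ψ (σ q) = -1 := by
    rcases H.row_unit (ψ := ψ) p with a1 | a1 | a1 <;> rcases H.row_unit (ψ := ψ) (σ p) with a2 | a2 | a2 <;>
      rcases H.row_unit (ψ := ψ) q with a3 | a3 | a3 <;>
      rcases H.row_unit (ψ := ψ) (σ q) with a4 | a4 | a4 <;> rw [a1, a2, a3, a4] at h0 ⊢ <;> omega
  have hσp : σ p = q := by
    have hne : c ψ (σ p) ≠ 0 := fun e => by rw [e, mul_zero] at hneg; omega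
    have hm : σ p ∈ U := by simp [hU, hne]
    have h1 : σ p ≠ x := fun e => hp.1 (by rw [← H.invS p, e, hσx])
    have h2 : σ p ≠ y := fun e => hp.2.1 (by rw [← H.invS p, e, hσy])
    have h3 : σ p ≠ p := fun e => by
      rw [e] at hneg
      nlinarith [mul_self_nonneg (c ψ p)]
    have : σ p ∈ ({p, q} : Finset ι) := hpq' ▸ (by simp [hm, h1, h2])
    simpa [h3] using this
  have hq' : c ψ q = -c ψ p := by
    have h1 := hneg.1
    rw [hσp] at h1
    rcases (H.row_unit (ψ := ψ) p).resolve_left hp.2.2 with e | e <;> rw [e] at h1 ⊢ <;> linarith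
  have hdeg := H.deg ψ
  rw [hsum _ (fun z hz => by rw [hz, zero_mul]), hq', ← hσp, H.degConj] at hdeg
  have hdx := H.dpos x
  have hdy := H.dpos y
  have hby : c ψ y = -c ψ x ∧ d y = d x := by
    rcases (H.row_unit (ψ := ψ) x).resolve_left hxψ with e | e <;>
      rcases (H.row_unit (ψ := ψ) y).resolve_left hyψ with e' | e' <;> rw [e, e'] at hdeg ⊢ <;>
      exact ⟨by linarith, by linarith⟩
  refine ⟨y, hy, hyx, hσy, ?_, hby.2, hby.1, ?_⟩
  · rw [hby.1] at hxy
    exact mul_right_cancel₀ hxψ (by linarith)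
  · rw [← H.weight ψ, hsum _ (fun z hz => by rw [hz, mul_zero]; simp)]
    have hTσ : T q = T p := by
      rw [← hσp, H.val, H.val]
      refine Finset.sum_nbij' τ τ (fun _ _ => Finset.mem_univ _) (fun _ _ => Finset.mem_univ _)
        (fun a _ => H.invT a) (fun a _ => H.invT a) fun a _ => ?_
      rw [H.econj, ← H.coefConj a (σ p), H.invS]
    rw [hTσ, hq', hby.1, hby.2, show d q = d p by rw [← hσp, H.degConj]]
    push_cast
    ring

/-- The values on the three exceptional characters are units. -/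
theorem value_three {S : Finset ι} (hS : S.card = 3) (hoS : o ∉ S)
    (hS1 : ∀ x ∈ S, c p0 x = 1 ∨ c p0 x = -1) (hS0 : ∀ x, x ∉ S → x ≠ o → c p0 x = 0)
    (hSσ : ∀ x ∈ S, σ x ∈ S ∧ c p0 (σ x) = c p0 x) :
    ∀ x ∈ S, T x = c p0 x := by
  intro x hx
  have hval : ∀ z, T z = c p0 z + ∑ ψ ∈ Finset.univ.erase p0, e ψ * c ψ z := fun z => by
    rw [H.val, ← Finset.add_sum_erase _ _ (Finset.mem_univ p0), H.eOne, one_mul]
  suffices hX : ∑ ψ ∈ Finset.univ.erase p0, e ψ * c ψ x = 0 by rw [hval, hX, add_zero]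
  by_cases hσx : σ x = x
  swap
  · have hneg : ∀ ψ ∈ Finset.univ.erase p0, c ψ (σ x) = -c ψ x := by
      intro ψ hψ
      have hψ' := Finset.ne_of_mem_erase hψ
      by_cases h0 : c ψ x = 0
      · by_contra hne
        rw [h0, neg_zero] at hne
        have h1 := (H.overlap_conj hS hoS hS1 hS0 hSσ hψ' (hSσ x hx).1 hne).1
          (by rw [H.invS]; exact Ne.symm hσx)
        rw [H.invS, h0] at h1
        exact hne (by linarith)
      · exact (H.overlap_conj hS hoS hS1 hS0 hSσ hψ' hx h0).1 hσx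
    have h2 : ∑ ψ ∈ Finset.univ.erase p0, e ψ * c ψ x =
        ∑ ψ ∈ Finset.univ.erase p0, e ψ * c ψ (σ x) := by
      have hmem : ∀ a ∈ Finset.univ.erase p0, τ a ∈ Finset.univ.erase p0 := fun a ha =>
        Finset.mem_erase.2 ⟨fun e => Finset.ne_of_mem_erase ha (by rw [← H.invT a, e, H.fixP]),
          Finset.mem_univ _⟩
      refine Finset.sum_nbij' τ τ hmem hmem (fun a _ => H.invT a) (fun a _ => H.invT a) fun a _ => ?_
      rw [H.econj, H.coefConj]
    have h3 : ∑ ψ ∈ Finset.univ.erase p0, e ψ * c ψ (σ x) =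
        -∑ ψ ∈ Finset.univ.erase p0, e ψ * c ψ x := by
      rw [← Finset.sum_neg_distrib]
      exact Finset.sum_congr rfl fun ψ hψ => by rw [hneg ψ hψ, mul_neg]
    linarith
  by_contra hX
  obtain ⟨X, hXdef⟩ : ∃ X, X = ∑ ψ ∈ Finset.univ.erase p0, e ψ * c ψ x := ⟨_, rfl⟩
  rw [← hXdef] at hX
  obtain ⟨ψ₀, hψ₀, hψ₀x⟩ : ∃ ψ ∈ Finset.univ.erase p0, c ψ x ≠ 0 := by
    by_contra! hall
    exact hX (hXdef.trans (Finset.sum_eq_zero fun ψ hψ => by rw [hall ψ hψ, mul_zero]))
  obtain ⟨y, hy, hyx, hσy, hay, hdy, -, -⟩ :=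
    (H.overlap_conj hS hoS hS1 hS0 hSσ (Finset.ne_of_mem_erase hψ₀) hx hψ₀x).2 hσx
  obtain ⟨z, hz⟩ : ∃ z, (S.erase x).erase y = {z} := Finset.card_eq_one.1 (by
    rw [Finset.card_erase_of_mem (by simp [hy, hyx]), Finset.card_erase_of_mem hx, hS])
  have hz' : z ∈ S ∧ z ≠ x ∧ z ≠ y := by
    have : z ∈ (S.erase x).erase y := by simp [hz]
    simp at this; tauto
  have hSsum : ∀ {M : Type} [AddCommMonoid M] (f : ι → M), (∀ w, w ∉ S → w ≠ o → f w = 0) →
      ∑ w, f w = f o + (f x + (f y + f z)) := by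
    intro M _ f hf
    rw [← Finset.add_sum_erase _ _ (Finset.mem_univ o), ← Finset.sum_subset
      (show S ⊆ Finset.univ.erase o from fun w hw => by simp; exact fun e => hoS (e ▸ hw))
      (fun w hw hwS => hf w hwS (Finset.ne_of_mem_erase hw)),
      ← Finset.add_sum_erase _ _ hx, ← Finset.add_sum_erase _ _
        (show y ∈ S.erase x by simp [hy, hyx]), hz, Finset.sum_singleton]
  have hdeg := H.deg p0
  rw [hSsum _ (fun w h1 h2 => by rw [hS0 w h1 h2, zero_mul]), H.colO p0, if_pos rfl, H.degO, hay,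
    hdy] at hdeg
  have hσz : σ z = z := by
    have h1 := (hSσ z hz'.1).1
    by_contra hne
    have : σ z ∈ ({z} : Finset ι) := hz ▸ (by
      simp [h1, show σ z ≠ x from fun e => hz'.2.1 (by rw [← H.invS z, e, hσx]),
        show σ z ≠ y from fun e => hz'.2.2 (by rw [← H.invS z, e, hσy])])
    simp [hne] at this
  have hzψ : ∀ ψ ∈ Finset.univ.erase p0, c ψ z = 0 := by
    intro ψ hψ
    by_contra hne
    obtain ⟨w, hw, hwz, -, haw, hdw, -, -⟩ :=
      (H.overlap_conj hS hoS hS1 hS0 hSσ (Finset.ne_of_mem_erase hψ) hz'.1 hne).2 hσz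
    have hwxy : w = x ∨ w = y := by
      by_contra! hc
      have : w ∈ ({z} : Finset ι) := hz ▸ (by simp [hw, hc.1, hc.2])
      simp [hwz] at this
    have hzeq : c p0 z = c p0 x ∧ d z = d x := by
      rcases hwxy with rfl | rfl
      · exact ⟨haw.symm, hdw.symm⟩
      · exact ⟨haw.symm.trans hay, hdw.symm.trans hdy⟩
    rw [hzeq.1, hzeq.2] at hdeg
    omega
  have hyneg : ∀ ψ ∈ Finset.univ.erase p0, c ψ y = -c ψ x := by
    intro ψ hψ
    have h1 := H.par p0 ψ
    rw [if_neg (Ne.symm (Finset.ne_of_mem_erase hψ)),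
      hSsum _ (fun w h1 h2 => by rw [hS0 w h1 h2, zero_mul]), H.colO ψ,
      if_neg (Finset.ne_of_mem_erase hψ), hzψ ψ hψ, hay, mul_zero, mul_zero, zero_add, add_zero,
      ← mul_add, mul_eq_zero] at h1
    have hax : c p0 x ≠ 0 := by rcases hS1 x hx with e | e <;> omega
    linarith [h1.resolve_left hax]
  have hTx : T x = c p0 x + X := by rw [hval, hXdef]
  have hTy : T y = c p0 x - X := by
    rw [hval, hay, Finset.sum_congr rfl (fun ψ hψ => by rw [hyneg ψ hψ, mul_neg]),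
      Finset.sum_neg_distrib, ← hXdef, sub_eq_add_neg]
  have hTz : T z = c p0 z := by
    rw [hval, Finset.sum_eq_zero (fun ψ hψ => by rw [hzψ ψ hψ, mul_zero]), add_zero]
  have hTo : T o = 1 := by
    rw [hval, H.colO p0, if_pos rfl, Finset.sum_eq_zero (fun ψ hψ => by
      rw [H.colO ψ, if_neg (Finset.ne_of_mem_erase hψ), mul_zero]), add_zero]
  have hd : (0 : ℚ) < d x := by exact_mod_cast H.dpos x
  have hover : ∀ ψ ∈ Finset.univ.erase p0, c ψ x ≠ 0 →
      κ * (e ψ : ℚ) * (d x : ℚ) = 4 * (c p0 x : ℚ) * X * c ψ x := by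
    intro ψ hψ hne
    obtain ⟨w, hw, hwx, -, -, -, hwneg, hk⟩ :=
      (H.overlap_conj hS hoS hS1 hS0 hSσ (Finset.ne_of_mem_erase hψ) hx hne).2 hσx
    have hwy : w = y := by
      by_contra hc
      have : w ∈ ({z} : Finset ι) := hz ▸ (by simp [hw, hwx, hc])
      rw [Finset.mem_singleton.1 this, hzψ ψ hψ] at hwneg
      exact hne (by linarith)
    rw [hk, hwy, hTx, hTy]
    push_cast
    field_simp
    ring
  have hax : c p0 x = 1 := by
    refine (hS1 x hx).resolve_right fun ha => ?_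
    have hneg : ∀ ψ ∈ Finset.univ.erase p0, e ψ * c ψ x * X ≤ 0 := by
      intro ψ hψ
      by_cases h0 : c ψ x = 0
      · simp [h0]
      have h1 := hover ψ hψ h0
      rw [ha] at h1
      have he : (0 : ℚ) < e ψ := by exact_mod_cast H.epos ψ
      have h3 : 0 < κ * (e ψ : ℚ) * (d x : ℚ) := mul_pos (mul_pos H.kpos he) hd
      push_cast at h1
      have h4 : (c ψ x : ℚ) * X < 0 := by nlinarith
      have h5 : c ψ x * X < 0 := by exact_mod_cast h4
      nlinarith [H.epos ψ]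
    have hs : X * X ≤ 0 := by
      nth_rw 1 [hXdef]
      rw [Finset.sum_mul]
      exact Finset.sum_nonpos hneg
    exact hX (mul_self_eq_zero.1 (le_antisymm hs (mul_self_nonneg X)))
  have hk0 := H.weight p0
  rw [hSsum _ (fun w h1 h2 => by rw [hS0 w h1 h2, mul_zero]; simp), H.colO p0, if_pos rfl, hTo,
    H.degO, hTx, hTy, hTz, hay, hdy, hax, H.eOne] at hk0
  rw [hax] at hdeg
  have hzz : (c p0 z : ℚ) * d z = -1 - 2 * d x := by
    have : c p0 z * d z = -1 - 2 * d x := by linarith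
    exact_mod_cast this
  have hzc : (c p0 z * c p0 z : ℤ) = 1 := by
    rcases hS1 z hz'.1 with e | e <;> rw [e] <;> norm_num
  have hzc' : (c p0 z : ℚ) * c p0 z = 1 := by exact_mod_cast hzc
  have hdz : (0 : ℚ) < d z := by exact_mod_cast H.dpos z
  have hκ : κ * (d x : ℚ) = d x + 2 + 2 * (X : ℚ) * X - d x / (1 + 2 * d x) := by
    have e1 : ((c p0 z * c p0 z * c p0 z : ℤ) : ℚ) / (d z : ℚ) = -(1 / (1 + 2 * (d x : ℚ))) := by
      rw [hzc, one_mul, eq_neg_iff_add_eq_zero, div_add_div _ _ hdz.ne' (by positivity), div_eq_zero_iff]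
      left
      linear_combination (c p0 z : ℚ) * hzz - (d z : ℚ) * hzc'
    rw [e1] at hk0
    push_cast at hk0
    field_simp at hk0 ⊢
    linear_combination -hk0
  have h1 := hover ψ₀ hψ₀ hψ₀x
  rw [hax] at h1
  push_cast at h1
  have he1 : (1 : ℚ) ≤ e ψ₀ := by exact_mod_cast H.epos ψ₀
  have h2 : κ * (d x : ℚ) ≤ κ * (e ψ₀ : ℚ) * d x := by nlinarith [mul_pos H.kpos hd]
  rw [hκ, h1] at h2
  have h6 : 0 < (d x : ℚ) - d x / (1 + 2 * d x) := by
    rw [sub_pos, div_lt_iff₀ (by positivity)]; nlinarith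
  rcases (H.row_unit (ψ := ψ₀) x).resolve_left hψ₀x with e | e <;> rw [e] at h2 <;> push_cast at h2 <;>
    nlinarith [sq_nonneg ((X : ℚ) - 1), sq_nonneg ((X : ℚ) + 1)]

/-- The bound on the order constant. -/
theorem bound : 1 / 3 ≤ κ ∧ (κ = 1 / 3 ∨ 5 / 12 ≤ κ) := by
  obtain ⟨S, hS, hoS, hS1, hS0, hSσ⟩ := H.exists_three
  have hT := H.value_three hS hoS hS1 hS0 hSσ
  obtain ⟨x, y, z, hxy, hxz, hyz, rfl⟩ := Finset.card_eq_three.1 hS
  simp only [Finset.mem_insert, Finset.mem_singleton, not_or] at hoS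
  have hTo : T o = 1 := by
    rw [H.val, ← Finset.add_sum_erase _ _ (Finset.mem_univ p0), H.colO p0, if_pos rfl, H.eOne,
      Finset.sum_eq_zero (fun ψ hψ => by
      rw [H.colO ψ, if_neg (Finset.ne_of_mem_erase hψ), mul_zero])]
    norm_num
  have hsum : ∀ {M : Type} [AddCommMonoid M] (f : ι → M),
      (∀ w, w ∉ ({x, y, z} : Finset ι) → w ≠ o → f w = 0) →
      ∑ w, f w = f o + (f x + (f y + f z)) := by
    intro M _ f hf
    rw [← Finset.add_sum_erase _ _ (Finset.mem_univ o), ← Finset.sum_subset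
      (show ({x, y, z} : Finset ι) ⊆ Finset.univ.erase o from fun w hw => by
        simp only [Finset.mem_insert, Finset.mem_singleton] at hw
        simp only [Finset.mem_erase, Finset.mem_univ, and_true]
        rcases hw with rfl | rfl | rfl
        exacts [Ne.symm hoS.1, Ne.symm hoS.2.1, Ne.symm hoS.2.2])
      (fun w hw hwS => hf w hwS (Finset.ne_of_mem_erase hw)),
      Finset.sum_insert (by simp [hxy, hxz]), Finset.sum_pair hyz]
  have hdeg := H.deg p0
  rw [hsum _ (fun w h1 h2 => by rw [hS0 w h1 h2, zero_mul]), H.colO p0, if_pos rfl, H.degO] at hdeg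
  have hk := H.weight p0
  rw [hsum _ (fun w h1 h2 => by rw [hS0 w h1 h2, mul_zero]; simp), H.colO p0, if_pos rfl, hTo,
    H.degO, hT x (by simp), hT y (by simp), hT z (by simp), H.eOne] at hk
  have hx2 := H.dge x (Ne.symm hoS.1)
  have hy2 := H.dge y (Ne.symm hoS.2.1)
  have hz2 := H.dge z (Ne.symm hoS.2.2)
  have hx2' : (2 : ℚ) ≤ d x := by exact_mod_cast hx2
  have hy2' : (2 : ℚ) ≤ d y := by exact_mod_cast hy2
  have hz2' : (2 : ℚ) ≤ d z := by exact_mod_cast hz2
  have two_pos' : ∀ a b : ℚ, 2 ≤ a → 2 ≤ b → ∀ k : ℚ, k = 1 + (1/a + 1/b - 1/(1 + a + b)) →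
      5 / 12 ≤ k := by
    intro a b ha hb k hk
    subst hk
    have h1 : 1 / (1 + a + b) ≤ 1 / 5 := by gcongr; linarith
    have h2 : 0 ≤ 1 / a := div_nonneg (by norm_num) (by linarith)
    have h3 : 0 ≤ 1 / b := div_nonneg (by norm_num) (by linarith)
    linarith
  have two_neg : ∀ a b : ℤ, 2 ≤ a → 2 ≤ b → ∀ k : ℚ,
      k = 1 + (1 / ((a : ℚ) + b - 1) - 1 / (a : ℚ) - 1 / (b : ℚ)) →
      1 / 3 ≤ k ∧ (k = 1 / 3 ∨ 5 / 12 ≤ k) := by
    intro a b ha hb k hk
    wlog hab : a ≤ b generalizing a b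
    · exact this b a hb ha (by rw [hk]; ring) (le_of_not_ge hab)
    by_cases h22 : a = 2 ∧ b = 2
    · rw [hk, h22.1, h22.2]; norm_num
    have key : 5 / 12 ≤ k := by
      have haq : (2 : ℚ) ≤ a := by exact_mod_cast ha
      have hbq : (2 : ℚ) ≤ b := by exact_mod_cast hb
      have hab' : (a : ℚ) ≤ b := by exact_mod_cast hab
      have hb3 : (3 : ℚ) ≤ b := by exact_mod_cast (show (3 : ℤ) ≤ b by omega)
      have hpos : (0 : ℚ) < a + b - 1 := by linarith
      rw [hk]
      have e : 1 + (1 / ((a : ℚ) + b - 1) - 1 / (a : ℚ) - 1 / (b : ℚ)) - 5 / 12 =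
          (7 * a * b * (a + b - 1) + 12 * a * b - 12 * b * (a + b - 1) - 12 * a * (a + b - 1)) /
            (12 * a * b * (a + b - 1)) := by
        field_simp; ring
      rw [← sub_nonneg, e]
      refine div_nonneg ?_ (by positivity)
      rcases (show a = 2 ∨ a = 3 ∨ 4 ≤ a by omega) with h | h | h
      · rw [h]; push_cast; nlinarith
      · rw [h]; push_cast; nlinarith
      · have h4 : (4 : ℚ) ≤ a := by exact_mod_cast h
        have h5 : 2 * ((a : ℚ) + b) ≤ a * b := by nlinarith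
        nlinarith [mul_le_mul_of_nonneg_right h5 hpos.le, mul_nonneg (le_trans (by norm_num : (0:ℚ) ≤ 2) haq) (le_trans (by norm_num : (0:ℚ) ≤ 2) hbq)]
    exact ⟨by linarith, Or.inr key⟩
  rcases hS1 x (by simp) with ex | ex <;> rcases hS1 y (by simp) with ey | ey <;>
    rcases hS1 z (by simp) with ez | ez <;> rw [ex, ey, ez] at hdeg hk <;> push_cast at hk
  · omega
  · have hzd : (d z : ℚ) = 1 + d x + d y := by
      exact_mod_cast (show d z = 1 + d x + d y by linarith)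
    have := two_pos' _ _ hx2' hy2' κ (by rw [hzd] at hk; linear_combination -hk)
    exact ⟨by linarith, Or.inr this⟩
  · have hyd : (d y : ℚ) = 1 + d x + d z := by
      exact_mod_cast (show d y = 1 + d x + d z by linarith)
    have := two_pos' _ _ hx2' hz2' κ (by rw [hyd] at hk; linear_combination -hk)
    exact ⟨by linarith, Or.inr this⟩
  · have hxd : (d x : ℚ) = (d y : ℚ) + d z - 1 := by
      exact_mod_cast (show d x = d y + d z - 1 by linarith)
    exact two_neg (d y) (d z) hy2 hz2 κ (by rw [hxd] at hk; linear_combination -hk)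
  · have hxd : (d x : ℚ) = 1 + d y + d z := by
      exact_mod_cast (show d x = 1 + d y + d z by linarith)
    have := two_pos' _ _ hy2' hz2' κ (by rw [hxd] at hk; linear_combination -hk)
    exact ⟨by linarith, Or.inr this⟩
  · have hyd : (d y : ℚ) = (d x : ℚ) + d z - 1 := by
      exact_mod_cast (show d y = d x + d z - 1 by linarith)
    exact two_neg (d x) (d z) hx2 hz2 κ (by rw [hyd] at hk; linear_combination -hk)
  · have hzd : (d z : ℚ) = (d x : ℚ) + d y - 1 := by
      exact_mod_cast (show d z = d x + d y - 1 by linarith)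
    exact two_neg (d x) (d y) hx2 hy2 κ (by rw [hzd] at hk; linear_combination -hk)
  · omega

end Rows

end Cfsg.Agent.FourCentral
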