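import Cfsg.Agent.FourCentral.Data
import Cfsg.Agent.FourCentral.Rows
import Cfsg.Agent.Char.Real
import Cfsg.Agent.Char.Virtual
import Cfsg.Agent.Char.Kernel
import Cfsg.Agent.Char.Linear
import Cfsg.Agent.Lib.ClassSize
import Cfsg.Agent.S0840

/-!
# The characters on the section of the involution
-/

set_option autoImplicit false

open scoped ComplexConjugate
open Cfsg

namespace Cfsg.Agent.FourCentral

open Subgroup

namespace Data

variable {G : Type*} [Group G] [Fintype G] {t : G} {E O : Subgroup G} (h : Data t E O)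
include h

theorem not_one_mem {y : O} : t * (y : G) ≠ 1 := fun e => by
  have h2 := h.odd
  have ht : t = (y : G)⁻¹ := eq_inv_of_mul_eq_one_left e
  exact h2 (h.ht ▸ ht ▸ orderOf_dvd_natCard O (O.inv_mem y.2))

omit [Fintype G] in
theorem comm_t (y : O) : Commute t (y : G) := h.comm t h.tE y y.2

theorem pow_card (y : O) : (t * (y : G)) ^ Nat.card O = t := by
  rw [(h.comm_t y).mul_pow]
  obtain ⟨m, hm⟩ : Odd (Nat.card O) := by
    rw [← Nat.not_even_iff_odd, even_iff_two_dvd]; exact h.odd
  have h1 : (y : G) ^ Nat.card O = 1 := by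
    rw [← SubmonoidClass.coe_pow, pow_card_eq_one', Subgroup.coe_one]
  rw [h1, mul_one, hm, pow_succ, pow_mul, pow_two, Invol.inv_mul_self h.ht, one_pow, one_mul]

theorem isConj_section {y y' : O} :
    IsConj (t * (y : G)) (t * y') ↔ IsConj y y' := by
  constructor
  · intro hc
    obtain ⟨g, hg⟩ := isConj_iff.1 hc
    have hg1 : g * t * g⁻¹ = t := by
      have := congrArg (· ^ Nat.card O) hg
      simp only [conj_pow, h.pow_card] at this
      exact this
    have hgC : g ∈ centralizer ({t} : Set G) :=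
      Subgroup.mem_centralizer_singleton_iff.2 (mul_inv_eq_iff_eq_mul.1 hg1)
    obtain ⟨e, he, z, hz, rfl⟩ := h.decomp g hgC
    refine isConj_iff.2 ⟨⟨z, hz⟩, Subtype.ext ?_⟩
    show z * (y : G) * z⁻¹ = y'
    have hcz : ∀ w ∈ O, e * w * e⁻¹ = w := fun w hw => by rw [h.comm e he w hw, mul_inv_cancel_right]
    have h2 : e * z * (y : G) * (e * z)⁻¹ = y' := by
      apply mul_left_cancel (a := t)
      rw [← hg]
      calc t * (e * z * (y : G) * (e * z)⁻¹)
          = (e * z) * t * (e * z)⁻¹ * ((e * z) * y * (e * z)⁻¹) := by rw [hg1]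
        _ = e * z * (t * y) * (e * z)⁻¹ := by simp [mul_assoc]
    rw [← h2]
    calc z * (y : G) * z⁻¹ = e * (z * y * z⁻¹) * e⁻¹ :=
          (hcz _ (O.mul_mem (O.mul_mem hz y.2) (O.inv_mem hz))).symm
      _ = e * z * y * (e * z)⁻¹ := by simp [mul_assoc]
  · intro hc
    obtain ⟨z, hz⟩ := isConj_iff.1 hc
    refine isConj_iff.2 ⟨(z : G), ?_⟩
    have hz' : (z : G) * y * (z : G)⁻¹ = y' := congrArg Subtype.val hz
    rw [← hz', ← mul_assoc, ← (h.comm_t z).eq]
    simp [mul_assoc]

theorem card_centralizer_section (y : O) :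
    Nat.card (centralizer ({t * (y : G)} : Set G)) = 4 * Nat.card (centralizer ({y} : Set O)) := by
  rw [← h.cardE, ← Nat.card_prod]
  refine (Nat.card_eq_of_bijective (fun p : E × centralizer ({y} : Set O) =>
    (⟨p.1.1 * p.2.1.1, ?_⟩ : centralizer ({t * (y : G)} : Set G))) ⟨?_, ?_⟩).symm
  · refine mul_mem ?_ ?_
    · rw [Subgroup.mem_centralizer_singleton_iff]
      have h1 : (p.1.1 : G) * t = t * p.1.1 := Subgroup.mem_centralizer_singleton_iff.1 (h.hE p.1.2)
      rw [← mul_assoc, h1, mul_assoc, h.comm _ p.1.2 _ y.2, mul_assoc]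
    · rw [Subgroup.mem_centralizer_singleton_iff]
      have h1 : (p.2.1.1 : G) * y = y * p.2.1.1 :=
        congrArg Subtype.val (Subgroup.mem_centralizer_singleton_iff.1 p.2.2)
      rw [← mul_assoc, ← (h.comm_t p.2.1).eq, mul_assoc, h1, mul_assoc]
  · rintro ⟨e, z⟩ ⟨e', z'⟩ heq
    obtain ⟨h1, h2⟩ := h.decomp_unique e.2 e'.2 z.1.2 z'.1.2 (congrArg Subtype.val heq)
    exact Prod.ext (Subtype.ext h1) (Subtype.ext (Subtype.ext h2))
  · rintro ⟨g, hg⟩
    rw [Subgroup.mem_centralizer_singleton_iff] at hg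
    have hgc : Commute g (t * (y : G)) := hg
    have hgC : g ∈ centralizer ({t} : Set G) := Subgroup.mem_centralizer_singleton_iff.2 (by
      have := hgc.pow_right (Nat.card O)
      rw [h.pow_card] at this
      exact this.eq)
    have hgy : g * (y : G) = y * g := by
      have h1 := Subgroup.mem_centralizer_singleton_iff.1 hgC
      rw [← mul_assoc, h1, mul_assoc, mul_assoc] at hg
      exact mul_left_cancel hg
    obtain ⟨e, he, z, hz, rfl⟩ := h.decomp g hgC
    have hzc : (⟨z, hz⟩ : O) ∈ centralizer ({y} : Set O) := by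
      rw [Subgroup.mem_centralizer_singleton_iff]
      refine Subtype.ext (mul_left_cancel (a := e) ?_)
      show e * (z * (y : G)) = e * (y * z)
      rw [← mul_assoc, hgy, ← mul_assoc, ← mul_assoc e, h.comm e he y y.2]
    exact ⟨(⟨e, he⟩, ⟨⟨z, hz⟩, hzc⟩), rfl⟩

open scoped Classical in
/-- Column orthogonality summed over the section. -/
theorem sum_section [Fintype O] (y : O) (f : O → ℂ) (hf : IsClassFunction O f) :
    ∑ y' : O, (∑ χ : IrrCharacter G, (χ : G → ℂ) (t * y) * conj ((χ : G → ℂ) (t * y'))) * f y' =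
      4 * (Nat.card O : ℂ) * f y := by
  simp only [Char.sum_irr_mul_conj, h.isConj_section, ite_mul, zero_mul]
  rw [← Finset.sum_filter, Finset.sum_congr rfl (fun y' hy' => by
    rw [← Char.isClassFunction_eq_of_isConj hf (Finset.mem_filter.1 hy').2]), Finset.sum_const,
    nsmul_eq_mul, h.card_centralizer_section, ← Char.card_isConj_mul_card_centralizer y]
  push_cast
  have hST : ∀ {S T : Finset O}, (∀ a, a ∈ S ↔ a ∈ T) → ∀ z : ℂ,
      (S.card : ℂ) * (4 * z * f y) = 4 * ((T.card : ℂ) * z) * f y := fun {S T} hS z => by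
    rw [Finset.ext hS]; ring
  exact hST (fun a => by simp) _

omit [Fintype G] h in
/-- The homomorphism `{±1} × O → G` sending `(-1, y)` to `t y`. -/
theorem exists_sectionHom [Finite G] (ht : orderOf t = 2) (hcomm : ∀ y : O, Commute t (y : G)) :
    ∃ ι : ℤˣ × O →* G, ∀ y : O, ι (1, y) = y ∧ ι (-1, y) = t * y := by
  let f : ℤˣ →* G :=
    { toFun := fun u => if u = 1 then 1 else t
      map_one' := by simp
      map_mul' := fun a b => by
        rcases Int.units_eq_one_or a with rfl | rfl <;> rcases Int.units_eq_one_or b with rfl | rfl <;>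
          simp [Invol.inv_mul_self ht] }
  refine ⟨MonoidHom.noncommCoprod f O.subtype (fun u y => ?_), fun y => ?_⟩
  · rcases Int.units_eq_one_or u with rfl | rfl
    · simp
    · simpa [f] using hcomm y
  · simp [f]

theorem exists_coef [Fintype O] (ψ : IrrCharacter O) (χ : IrrCharacter G) :
    ∃ z : ℤ, (z : ℂ) * (Nat.card O : ℂ) =
      ∑ y : O, (χ : G → ℂ) (t * y) * conj ((ψ : O → ℂ) y) := by
  classical
  obtain ⟨ι, hι⟩ := exists_sectionHom (O := O) h.ht h.comm_t
  obtain ⟨a, ha⟩ := Char.classInner_generalized_int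
    (Char.isGeneralizedCharacter_of_isCharacter (Char.isCharacter_comp (Char.isCharacter_of_irr χ.2) ι))
    (Char.isGeneralizedCharacter_of_isCharacter
      (Char.isCharacter_comp (Char.isCharacter_of_irr ψ.2) (MonoidHom.snd ℤˣ O)))
  obtain ⟨b, hb⟩ := Char.classInner_generalized_int
    (Char.isGeneralizedCharacter_of_isCharacter (Char.isCharacter_comp (Char.isCharacter_of_irr χ.2) O.subtype))
    (Char.isGeneralizedCharacter_of_irr ψ.2)
  refine ⟨2 * a - b, ?_⟩
  have ha' := Char.sum_mul_conj_eq_card_mul_classInner ((χ : G → ℂ) ∘ ι) ((ψ : O → ℂ) ∘ MonoidHom.snd ℤˣ O)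
  have hb' := Char.sum_mul_conj_eq_card_mul_classInner ((χ : G → ℂ) ∘ O.subtype) (ψ : O → ℂ)
  rw [ha, Nat.card_prod, show Nat.card ℤˣ = 2 by rw [Nat.card_eq_fintype_card]; rfl,
    Fintype.sum_prod_type, show (Finset.univ : Finset ℤˣ) = {1, -1} from rfl,
    Finset.sum_pair (by decide)] at ha'
  rw [hb] at hb'
  simp only [Function.comp_apply, MonoidHom.coe_snd, (hι _).1, (hι _).2, Subgroup.coe_subtype] at ha' hb'
  push_cast at ha' ⊢
  linear_combination -ha' + hb'

open scoped Classical in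
theorem cnt_section (y : O) :
    (Nat.card {p : G × G // IsConj t p.1 ∧ IsConj t p.2 ∧ p.1 * p.2 = t * y} : ℕ) =
      if (y : G) = 1 then 2 else 0 := by
  have hord : ∀ {u}, IsConj t u → orderOf u = 2 := fun hu =>
    (Invol.orderOf_eq_of_isConj hu).symm.trans h.ht
  have key : ∀ p : G × G, IsConj t p.1 ∧ IsConj t p.2 ∧ p.1 * p.2 = t * y →
      p.1 ∈ centralizer ({t} : Set G) ∧ (y : G) = 1 ∧ p.2 = p.1 * t := by
    rintro ⟨u, v⟩ ⟨hu, hv, huv⟩
    have hu2 := hord hu
    have hv2 := hord hv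
    have hinv : u * (t * (y : G)) * u⁻¹ = (t * (y : G))⁻¹ := by
      rw [← huv, mul_inv_rev, Invol.inv_eq hv2, Invol.inv_eq hu2]
      simp [mul_assoc, Invol.mul_self_cancel hu2]
    have hut : u ∈ centralizer ({t} : Set G) := by
      have := congrArg (· ^ Nat.card O) hinv
      simp only [conj_pow, inv_pow, h.pow_card, Invol.inv_eq h.ht] at this
      exact Subgroup.mem_centralizer_singleton_iff.2 (mul_inv_eq_iff_eq_mul.1 this)
    have huE := h.mem_E_of_invol hut (Invol.inv_mul_self hu2)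
    have hfix : u * (t * (y : G)) * u⁻¹ = t * y := by
      rw [← mul_assoc u, Subgroup.mem_centralizer_singleton_iff.1 hut, mul_assoc t u,
        h.comm u huE y y.2, ← mul_assoc, mul_inv_cancel_right]
    have hy1 : (y : G) = 1 := by
      have h1 : (t * (y : G)) * (t * y) = 1 := eq_inv_iff_mul_eq_one.1 (hfix.symm.trans hinv)
      have h2 : (y : G) * y = 1 := by
        calc (y : G) * y = t * t * ((y : G) * y) := by rw [Invol.inv_mul_self h.ht, one_mul]
          _ = t * (t * (y : G)) * y := by simp [mul_assoc]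
          _ = t * ((y : G) * t) * y := by rw [(h.comm_t y).eq]
          _ = 1 := by rw [← h1]; simp [mul_assoc]
      by_contra hy
      exact h.odd ((Invol.orderOf_eq_two h2 hy) ▸ orderOf_dvd_natCard O y.2)
    refine ⟨hut, hy1, ?_⟩
    rw [hy1, mul_one] at huv
    rw [← huv, Invol.mul_self_cancel hu2]
  by_cases hy : (y : G) = 1
  · rw [if_pos hy]
    let f : {a : E // (a : G) ≠ 1 ∧ (a : G) ≠ t} →
        {p : G × G // IsConj t p.1 ∧ IsConj t p.2 ∧ p.1 * p.2 = t * y} := fun a =>
      ⟨(a.1.1, a.1.1 * t), h.fused _ a.1.2 a.2.1,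
        h.fused _ (E.mul_mem a.1.2 h.tE) (fun e => a.2.2
          ((eq_inv_of_mul_eq_one_left e).trans (Invol.inv_eq h.ht))),
        by rw [hy, mul_one, ← mul_assoc, h.sqE _ a.1.2, one_mul]⟩
    have hf : Function.Bijective f := by
      constructor
      · intro a b e
        exact Subtype.ext (Subtype.ext (congrArg Prod.fst (congrArg Subtype.val e) :))
      · rintro ⟨⟨u, v⟩, hp⟩
        obtain ⟨hu, -, hv⟩ := key ⟨u, v⟩ hp
        have hu2 := hord hp.1
        refine ⟨⟨⟨u, h.mem_E_of_invol hu (Invol.inv_mul_self hu2)⟩, Invol.inv_ne_one hu2,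
          fun e => Invol.inv_ne_one (hord hp.2.1) ?_⟩,
          Subtype.ext (Prod.ext rfl hv.symm)⟩
        have e' : u = t := e
        show v = 1
        rw [show v = u * t from hv, e', Invol.inv_mul_self h.ht]
    rw [← Nat.card_eq_of_bijective f hf]
    classical
    haveI := Fintype.ofFinite E
    rw [Nat.card_eq_fintype_card, Fintype.card_subtype]
    have : ({a : E | (a : G) ≠ 1 ∧ (a : G) ≠ t} : Finset E) =
        (Finset.univ.erase 1).erase ⟨t, h.tE⟩ := by
      ext a
      simp only [Finset.mem_filter, Finset.mem_univ, true_and, Finset.mem_erase, and_true, ne_eq,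
        Subtype.ext_iff, Subgroup.coe_one]
      exact and_comm
    rw [this, Finset.card_erase_of_mem (by
      simp [Subtype.ext_iff, Invol.inv_ne_one h.ht]), Finset.card_erase_of_mem (Finset.mem_univ _),
      Finset.card_univ, ← Nat.card_eq_fintype_card, h.cardE]
  · rw [if_neg hy, Nat.card_eq_zero]
    exact Or.inl ⟨fun p => hy (key p.1 p.2).2.1⟩

theorem kappa_bound (hlin : ∀ χ : IrrCharacter G, (χ : G → ℂ) 1 = 1 → χ = Char.trivialIrr G) :
    ∃ κ : ℚ, κ = 32 * (Nat.card O : ℚ) / (Nat.card G : ℚ) ∧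
      1 / 3 ≤ κ ∧ (κ = 1 / 3 ∨ 5 / 12 ≤ κ) := by
  classical
  haveI := Fintype.ofFinite O
  refine ⟨_, rfl, ?_⟩
  choose dn hdn_pos hdn using fun χ : IrrCharacter G => Char.irr_one_pos χ.2
  choose en hen_pos hen using fun ψ : IrrCharacter O => Char.irr_one_pos ψ.2
  choose c hc using fun ψ χ => h.exists_coef ψ χ
  have hO0 : (Nat.card O : ℂ) ≠ 0 := Nat.cast_ne_zero.2 Nat.card_pos.ne'
  have hval : ∀ χ : IrrCharacter G, (χ : G → ℂ) t = ((∑ ψ, (en ψ : ℤ) * c ψ χ : ℤ) : ℂ) := by
    intro χ
    apply mul_right_cancel₀ hO0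
    push_cast
    rw [Finset.sum_mul]
    simp only [mul_assoc, hc, Finset.mul_sum]
    rw [Finset.sum_comm]
    have hreg : ∀ y : O, ∑ ψ : IrrCharacter O, ((en ψ : ℕ) : ℂ) *
        ((χ : G → ℂ) (t * y) * conj ((ψ : O → ℂ) y)) =
        (χ : G → ℂ) (t * y) * if y = 1 then (Nat.card O : ℂ) else 0 := by
      intro y
      have e := congrArg conj (Char.sum_irr_degree_mul y)
      simp only [map_sum, map_mul, hen, map_natCast, apply_ite (starRingEnd ℂ), map_zero] at e
      rw [← e, Finset.mul_sum]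
      exact Finset.sum_congr rfl fun ψ _ => by ring
    simp only [hreg, mul_ite, mul_zero, Finset.sum_ite_eq', Finset.mem_univ, if_true,
      Subgroup.coe_one, mul_one]
  have hconjc : ∀ ψ χ, c (Char.conjIrr ψ) (Char.conjIrr χ) = c ψ χ := by
    intro ψ χ
    have e := congrArg conj (hc ψ χ)
    simp only [map_mul, map_intCast, map_natCast, map_sum, Complex.conj_conj] at e
    have e2 := hc (Char.conjIrr ψ) (Char.conjIrr χ)
    simp only [Char.conjIrr_apply, Complex.conj_conj] at e2
    exact_mod_cast mul_right_cancel₀ hO0 (e2.trans e.symm)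
  have hI : Nat.card {x : G // IsConj t x} * (4 * Nat.card O) = Nat.card G := by
    rw [← h.card_centralizer, mul_comm, ← ClassSize.card_centralizer_mul_ncard_conjugatesOf t,
      ← Nat.card_coe_set_eq]
    rfl
  refine Rows.bound (o := Char.trivialIrr G) (p0 := Char.trivialIrr O) (c := c)
    (d := fun χ => (dn χ : ℤ)) (T := fun χ => ∑ ψ, (en ψ : ℤ) * c ψ χ) (e := fun ψ => (en ψ : ℤ))
    (σ := Char.conjIrr) (τ := Char.conjIrr) ?_
  have htriv : ∀ {H : Type _} [Group H] [Finite H] (g : H), ((Char.trivialIrr H : IrrCharacter H) : H → ℂ) g = 1 :=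
    fun _ => rfl
  constructor
  · exact fun χ => by exact_mod_cast hdn_pos χ
  · intro χ hχ
    have h1 : dn χ ≠ 1 := fun e => hχ (hlin χ (by rw [hdn χ, e, Nat.cast_one]))
    have := hdn_pos χ
    omega
  · have e := hdn (Char.trivialIrr G)
    rw [htriv] at e
    exact_mod_cast e.symm
  · intro ψ
    have e := hc ψ (Char.trivialIrr G)
    simp only [htriv, one_mul] at e
    split_ifs with hψ
    · subst hψ
      simp only [htriv, map_one, Finset.sum_const, Finset.card_univ, ← Nat.card_eq_fintype_card,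
        nsmul_eq_mul, mul_one] at e
      exact_mod_cast mul_right_cancel₀ hO0 (e.trans (one_mul _).symm)
    · rw [← map_sum, Char.irr_sum_eq_zero ψ.2 (fun e => hψ (Subtype.ext e)), map_zero] at e
      exact_mod_cast (mul_eq_zero.1 e).resolve_right hO0
  · exact fun ψ => by exact_mod_cast hen_pos ψ
  · have e := hen (Char.trivialIrr O)
    rw [htriv] at e
    exact_mod_cast e.symm
  · intro ψ ψ'
    have e : ((∑ χ, c ψ χ * c ψ' χ : ℤ) : ℂ) * ((Nat.card O : ℂ) * (Nat.card O : ℂ)) =
        4 * (Nat.card O : ℂ) * ((Nat.card O : ℂ) * classInner (ψ' : O → ℂ) (ψ : O → ℂ)) := by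
      rw [← Char.sum_mul_conj_eq_card_mul_classInner]
      push_cast
      rw [Finset.sum_mul, Finset.mul_sum]
      calc ∑ χ, (c ψ χ : ℂ) * (c ψ' χ : ℂ) * ((Nat.card O : ℂ) * (Nat.card O : ℂ))
          = ∑ χ, ((c ψ χ : ℂ) * (Nat.card O : ℂ)) * conj ((c ψ' χ : ℂ) * (Nat.card O : ℂ)) :=
            Finset.sum_congr rfl fun χ _ => by rw [map_mul, map_intCast, map_natCast]; ring
        _ = ∑ χ : IrrCharacter G, ∑ y : O, ∑ y' : O,
              ((χ : G → ℂ) (t * y) * conj ((χ : G → ℂ) (t * y'))) * (ψ' : O → ℂ) y' *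
                conj ((ψ : O → ℂ) y) := by
            refine Finset.sum_congr rfl fun χ _ => ?_
            rw [hc, hc, map_sum, Finset.sum_mul_sum]
            refine Finset.sum_congr rfl fun y _ => Finset.sum_congr rfl fun y' _ => ?_
            rw [map_mul, Complex.conj_conj]; ring
        _ = ∑ y : O, 4 * (Nat.card O : ℂ) * ((ψ' : O → ℂ) y * conj ((ψ : O → ℂ) y)) := by
            rw [Finset.sum_comm]
            refine Finset.sum_congr rfl fun y _ => ?_
            rw [Finset.sum_comm, ← mul_assoc, ← h.sum_section y _ (Char.irr_isClassFunction ψ'.2),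
              Finset.sum_mul]
            refine Finset.sum_congr rfl fun y' _ => ?_
            rw [Finset.sum_mul, Finset.sum_mul]
    by_cases hψ : ψ = ψ'
    · subst hψ
      rw [if_pos rfl]
      rw [Char.classInner_irr_self ψ.2, mul_one] at e
      have h4 : ((∑ χ, c ψ χ * c ψ χ : ℤ) : ℂ) = 4 :=
        mul_right_cancel₀ (mul_ne_zero hO0 hO0) (e.trans (by ring))
      exact_mod_cast h4
    · rw [if_neg hψ]
      rw [Char.classInner_irr_ne ψ'.2 ψ.2 (fun e => hψ (Subtype.ext e).symm), mul_zero, mul_zero,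
        mul_eq_zero] at e
      exact_mod_cast e.resolve_right (mul_ne_zero hO0 hO0)
  · intro ψ
    have e : ((∑ χ, c ψ χ * (dn χ : ℤ) : ℤ) : ℂ) * (Nat.card O : ℂ) = 0 := by
      push_cast
      rw [Finset.sum_mul]
      calc ∑ χ, (c ψ χ : ℂ) * (dn χ : ℂ) * (Nat.card O : ℂ)
          = ∑ χ : IrrCharacter G, ∑ y : O,
              conj ((ψ : O → ℂ) y) * ((χ : G → ℂ) 1 * (χ : G → ℂ) (t * y)) :=
            Finset.sum_congr rfl fun χ _ => by
              rw [mul_right_comm, hc, Finset.sum_mul, hdn]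
              exact Finset.sum_congr rfl fun y _ => by ring
        _ = 0 := by
            rw [Finset.sum_comm]
            refine Finset.sum_eq_zero fun y _ => ?_
            rw [← Finset.mul_sum, Char.sum_irr_degree_mul, if_neg h.not_one_mem, mul_zero]
    exact_mod_cast (mul_eq_zero.1 e).resolve_right hO0
  · exact fun _ => rfl
  · intro ψ
    have hg : (Nat.card G : ℂ) ≠ 0 := Nat.cast_ne_zero.2 Nat.card_pos.ne'
    have hI0 : (Nat.card {x : G // IsConj t x} : ℂ) ≠ 0 := by
      intro e
      have := Nat.cast_eq_zero.1 e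
      rw [this, zero_mul] at hI
      exact Nat.card_pos.ne hI
    have hcnt : ∀ y : O, ((if (y : G) = 1 then 2 else 0 : ℕ) : ℂ) =
        (Nat.card {x : G // IsConj t x} : ℂ) * (Nat.card {x : G // IsConj t x} : ℂ) / (Nat.card G : ℂ) *
          ∑ χ : IrrCharacter G, (χ : G → ℂ) t * (χ : G → ℂ) t * conj ((χ : G → ℂ) (t * y)) /
            (χ : G → ℂ) 1 := by
      intro y
      rw [← h.cnt_section y, S0840.result t t (t * (y : G)), finsum_eq_sum_of_fintype]
    have hsum : ∑ y : O, ((if (y : G) = 1 then 2 else 0 : ℕ) : ℂ) * (ψ : O → ℂ) y =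
        2 * (en ψ : ℂ) := by
      rw [Finset.sum_eq_single (1 : O)]
      · simp [hen]
      · intro y _ hy
        simp [hy]
      · simp
    have hrow : ∀ χ : IrrCharacter G,
        ∑ y : O, conj ((χ : G → ℂ) (t * y)) * (ψ : O → ℂ) y = (c ψ χ : ℂ) * (Nat.card O : ℂ) := by
      intro χ
      have e := congrArg conj (hc ψ χ)
      simp only [map_mul, map_intCast, map_natCast, map_sum, Complex.conj_conj] at e
      exact e.symm
    rw [Finset.sum_congr rfl (fun y _ => by rw [hcnt y])] at hsum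
    simp only [Finset.mul_sum, Finset.sum_mul] at hsum
    rw [Finset.sum_comm] at hsum
    simp only [hval, hdn] at hsum
    have hsum' : (Nat.card {x : G // IsConj t x} : ℂ) * (Nat.card {x : G // IsConj t x} : ℂ) /
        (Nat.card G : ℂ) * (Nat.card O : ℂ) *
        ∑ χ : IrrCharacter G, (((∑ φ, (en φ : ℤ) * c φ χ) * (∑ φ, (en φ : ℤ) * c φ χ) * c ψ χ : ℤ) : ℂ) /
          ((dn χ : ℕ) : ℂ) = 2 * (en ψ : ℂ) := by
      rw [← hsum, Finset.mul_sum]
      refine Finset.sum_congr rfl fun χ _ => ?_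
      generalize (∑ φ, (en φ : ℤ) * c φ χ) = T
      push_cast
      calc _ = (Nat.card {x : G // IsConj t x} : ℂ) * (Nat.card {x : G // IsConj t x} : ℂ) /
            (Nat.card G : ℂ) * ((T : ℂ) * (T : ℂ) / (dn χ : ℂ)) *
            ((c ψ χ : ℂ) * (Nat.card O : ℂ)) := by ring
        _ = _ := by
          rw [← hrow χ, Finset.mul_sum]
          exact Finset.sum_congr rfl fun y _ => by ring
    apply Rat.cast_injective (α := ℂ)
    push_cast at hsum' ⊢
    have hI' : (Nat.card {x : G // IsConj t x} : ℂ) * (4 * (Nat.card O : ℂ)) = (Nat.card G : ℂ) := by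
      exact_mod_cast hI
    rw [← hI'] at hsum' ⊢
    field_simp at hsum' ⊢
    linear_combination 4 * hsum'
  · exact Char.conjIrr_conjIrr
  · exact Char.conjIrr_conjIrr
  · exact Subtype.ext (funext fun g => by simp [Char.conjIrr_apply, htriv])
  · exact Subtype.ext (funext fun g => by simp [Char.conjIrr_apply, htriv])
  · intro ψ hψ e
    refine hψ (Char.real_irr_eq_trivial ?_ ψ ((Char.conjIrr_eq_self_iff ψ).1 e))
    rw [← Nat.not_even_iff_odd, even_iff_two_dvd]; exact h.odd
  · exact hconjc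
  · intro χ
    have e := hdn (Char.conjIrr χ)
    rw [Char.conjIrr_apply, hdn χ, map_natCast] at e
    exact_mod_cast e.symm
  · intro ψ
    have e := hen (Char.conjIrr ψ)
    rw [Char.conjIrr_apply, hen ψ, map_natCast] at e
    exact_mod_cast e.symm
  · have h1 : (0 : ℚ) < Nat.card O := by exact_mod_cast Nat.card_pos
    have h2 : (0 : ℚ) < Nat.card G := by exact_mod_cast Nat.card_pos
    positivity

end Data

end Cfsg.Agent.FourCentral
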