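import Cfsg.Agent.S3224
import Cfsg.Agent.Invol.IndexTwo
import Cfsg.Agent.Invol.Basic

/-!
# Involutions whose centraliser has 2-part of order four
-/

set_option autoImplicit false

namespace Cfsg.Agent.FourCentral

open Subgroup

variable {G : Type*} [Group G]

theorem eq_of_invol_zpowers {a u v : G} (hu : u ∈ zpowers a) (hv : v ∈ zpowers a)
    (hu2 : orderOf u = 2) (hv2 : orderOf v = 2) [Finite G] : u = v := by
  have key : ∀ w ∈ zpowers a, orderOf w = 2 → w = a ^ (orderOf a / 2) := by
    intro w hw hw2
    obtain ⟨i, hi, rfl⟩ : ∃ i < orderOf a, a ^ i = w := by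
      obtain ⟨i, hi⟩ := mem_powers_iff_mem_zpowers.2 hw
      exact ⟨i % orderOf a, Nat.mod_lt _ (orderOf_pos a), (pow_mod_orderOf a i).trans hi⟩
    have hd : orderOf a ∣ i * 2 := by
      rw [orderOf_dvd_iff_pow_eq_one, pow_mul, ← hw2, pow_orderOf_eq_one]
    have hi0 : i ≠ 0 := fun e => by rw [e, pow_zero, orderOf_one] at hw2; omega
    obtain ⟨c, hc⟩ := hd
    have hc1 : c = 1 := by
      rcases Nat.lt_trichotomy c 1 with h0 | h0 | h0
      · interval_cases c; omega
      · exact h0
      · have := Nat.mul_le_mul_left (orderOf a) (show 2 ≤ c by omega); omega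
    subst hc1
    rw [show orderOf a / 2 = i by omega]
  rw [key u hu hu2, key v hv hv2]

/-- In a 2-group with a cyclic subgroup of index two, the involution of that subgroup is central. -/
theorem central_invol_of_index_two [Finite G] {a u : G} (hi : (zpowers a).index = 2)
    (hu : u ∈ zpowers a) (hu2 : orderOf u = 2) (g : G) : g * u = u * g := by
  have hN : (zpowers a).Normal := Subgroup.normal_of_index_eq_two hi
  have h := eq_of_invol_zpowers (hN.conj_mem u hu g) hu (by rw [Invol.orderOf_conj]; exact hu2) hu2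
  rwa [mul_inv_eq_iff_eq_mul] at h

theorem exists_cyclic_index_two {S : Type*} [Group S] [Finite S]
    (h : (∃ n : ℕ, Nonempty (S ≃* DihedralGroup n)) ∨ Cfsg.IsQuasiDihedral S) :
    ∃ a : S, (zpowers a).index = 2 := by
  have key : ∀ a : S, 2 * orderOf a = Nat.card S → (zpowers a).index = 2 := fun a ha => by
    have e := (zpowers a).card_mul_index
    rw [Nat.card_zpowers, ← ha, mul_comm 2] at e
    exact Nat.eq_of_mul_eq_mul_left (orderOf_pos a) e
  rcases h with ⟨n, ⟨e⟩⟩ | ⟨n, -, hc, a, -, ha, -, -⟩
  · refine ⟨e.symm (DihedralGroup.r 1), key _ ?_⟩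
    rw [MulEquiv.orderOf_eq, DihedralGroup.orderOf_r_one,
      Nat.card_congr e.toEquiv, DihedralGroup.nat_card]
  · exact ⟨a, key a (by rw [hc, ha, pow_succ, mul_comm])⟩

/-- If the centraliser of the involution `x` contains a four-group as a Sylow 2-subgroup and has
2-part 4, and the Sylow 2-subgroups of `G` are larger, then `G` has a subgroup of index two. -/
theorem exists_index_two [Finite G] {x : G} (hx : orderOf x = 2) {S0 : Subgroup G}
    (hle : S0 ≤ centralizer ({x} : Set G)) (h4 : Nat.card S0 = 4)
    (h8 : ¬ 8 ∣ Nat.card (centralizer ({x} : Set G))) (hxS0 : x ∈ S0)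
    (S : Sylow 2 G) (hS0 : S0 ≤ (S : Subgroup G)) (hne : Nat.card (S : Subgroup G) ≠ 4) :
    ∃ H : Subgroup G, H.index = 2 := by
  by_contra! hno
  haveI : Fact (Nat.Prime 2) := ⟨Nat.prime_two⟩
  obtain ⟨xS, hxS⟩ : ∃ xS : (S : Subgroup G), xS = ⟨x, hS0 hxS0⟩ := ⟨_, rfl⟩
  have hxS2 : orderOf xS = 2 := by rw [hxS, Subgroup.orderOf_mk, hx]
  have hC : Nat.card (centralizer ({xS} : Set (S : Subgroup G))) = 4 := by
    obtain ⟨j, hj⟩ := IsPGroup.iff_card.1
      (S.isPGroup'.to_subgroup (centralizer ({xS} : Set (S : Subgroup G))))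
    have hmap : (centralizer ({xS} : Set (S : Subgroup G))).map (S : Subgroup G).subtype ≤
        centralizer ({x} : Set G) := by
      rintro _ ⟨a, ha, rfl⟩
      rw [Subgroup.mem_centralizer_singleton_iff]
      have := congrArg Subtype.val (Subgroup.mem_centralizer_singleton_iff.1 ha)
      simpa [hxS] using this
    have hsub : S0.subgroupOf (S : Subgroup G) ≤ centralizer ({xS} : Set (S : Subgroup G)) := by
      intro a ha
      rw [Subgroup.mem_centralizer_singleton_iff]
      refine Subtype.ext ?_
      simpa [hxS] using (Subgroup.mem_centralizer_singleton_iff.1 (hle ha))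
    have h1 : 4 ∣ 2 ^ j := by
      rw [← hj, ← h4, ← Nat.card_congr (Subgroup.subgroupOfEquivOfLe hS0).toEquiv]
      exact Subgroup.card_dvd_of_le hsub
    have h2 : 2 ^ j ∣ Nat.card (centralizer ({x} : Set G)) := by
      rw [← hj, Nat.card_congr ((centralizer ({xS} : Set (S : Subgroup G))).equivMapOfInjective
        (S : Subgroup G).subtype Subtype.val_injective).toEquiv]
      exact Subgroup.card_dvd_of_le hmap
    rw [hj]
    rcases Nat.lt_trichotomy j 2 with hlt | he | hgt
    · have := Nat.le_of_dvd (by positivity) h1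
      interval_cases j <;> omega
    · rw [he]; rfl
    · exact absurd (((pow_dvd_pow 2 (by omega : 3 ≤ j)) : (8 : ℕ) ∣ 2 ^ j).trans h2) h8
  rcases S3224.result S.isPGroup' xS hxS2 hC with h | h | h
  rotate_left 2
  · exact hne h
  all_goals
    obtain ⟨a, ha⟩ := exists_cyclic_index_two (S := (S : Subgroup G))
      (by first | exact Or.inl h | exact Or.inr h)
    obtain ⟨g, hg⟩ := Invol.exists_conj_mem_of_no_index_two hno S
      ((zpowers a).map (S : Subgroup G).subtype) (by
        rw [← Nat.card_congr ((zpowers a).equivMapOfInjective _ Subtype.val_injective).toEquiv,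
          ← (zpowers a).card_mul_index, ha, mul_comm]) hx
    obtain ⟨u, hu, hux⟩ := hg
    have hu2 : orderOf u = 2 := by
      rw [← Subgroup.orderOf_coe, show (u : G) = g⁻¹ * x * g from hux]
      simpa [Invol.orderOf_conj, hx] using Invol.orderOf_conj g⁻¹ x
    have hcent : (S : Subgroup G) ≤ centralizer ({(u : G)} : Set G) := fun s hs =>
      Subgroup.mem_centralizer_singleton_iff.2
        (congrArg Subtype.val (central_invol_of_index_two ha hu hu2 ⟨s, hs⟩) :)
    obtain ⟨j, hj⟩ := IsPGroup.iff_card.1 S.isPGroup'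
    have h4S : 4 ∣ 2 ^ j := by rw [← hj, ← h4]; exact Subgroup.card_dvd_of_le hS0
    have hj3 : 3 ≤ j := by
      by_contra hlt
      rw [hj] at hne
      have := Nat.le_of_dvd (by positivity) h4S
      interval_cases j <;> omega
    refine h8 ?_
    have hcard : Nat.card (centralizer ({(u : G)} : Set G)) =
        Nat.card (centralizer ({x} : Set G)) := by
      refine Nat.card_congr (Equiv.subtypeEquiv (MulAut.conj g).toEquiv fun z => ?_)
      rw [show (u : G) = g⁻¹ * x * g from hux, Subgroup.mem_centralizer_singleton_iff,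
        Subgroup.mem_centralizer_singleton_iff]
      constructor <;> intro hz
      · have := congrArg (fun w => g * w * g⁻¹) hz
        simpa [mul_assoc] using this
      · have := congrArg (fun w => g⁻¹ * w * g) hz
        simpa [mul_assoc] using this
    rw [← hcard]
    exact ((pow_dvd_pow 2 hj3 : (8 : ℕ) ∣ 2 ^ j).trans (hj ▸ Subgroup.card_dvd_of_le hcent))

end Cfsg.Agent.FourCentral
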