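import Cfsg.Agent.BSWall.CharMain
import Cfsg.Agent.FourCentral.Basic

/-!
# Groups with an involution whose centraliser is a dihedral Sylow 2-subgroup of order eight
-/

set_option autoImplicit false

namespace Cfsg.Agent.FourCentral

open Subgroup

variable {G : Type*} [Group G] [Finite G]

/-- Orders and simplicity. -/
theorem order_of_sylow_centralizer {α a s : G} (S : Sylow 2 G)
    (hS : (S : Subgroup G) = centralizer ({α} : Set G)) (hno : ∀ H : Subgroup G, H.index ≠ 2)
    (hα : orderOf α = 2) (h8 : Nat.card (centralizer ({α} : Set G)) = 8)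
    (ha : a ∈ centralizer ({α} : Set G)) (ha4 : orderOf a = 4)
    (hsC : s ∈ centralizer ({α} : Set G)) (hs : orderOf s = 2) (hsa : s ∉ zpowers a)
    (hinv : s * a * s⁻¹ = a⁻¹) :
    (Nat.card G = 168 ∨ Nat.card G = 360) ∧ IsSimpleGroup G := by
  classical
  haveI : Fact (Nat.Prime 2) := ⟨Nat.prime_two⟩
  set C := centralizer ({α} : Set G) with hC
  have hK : zpowers a ≤ C := zpowers_le.2 ha
  have hK4 : Nat.card (zpowers a) = 4 := by rw [Nat.card_zpowers, ha4]
  have ha2 : orderOf (a ^ 2) = 2 := by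
    rw [orderOf_pow' _ two_ne_zero, ha4]; rfl
  have hlt : zpowers a < zpowers a ⊔ zpowers s :=
    lt_of_le_of_ne le_sup_left fun e => hsa (e ▸ mem_sup_right (mem_zpowers s))
  have hgen : zpowers a ⊔ zpowers s = C := by
    refine Subgroup.eq_of_le_of_card_ge (sup_le hK (zpowers_le.2 hsC)) ?_
    rw [h8]
    have h1 : 4 ∣ Nat.card (zpowers a ⊔ zpowers s : Subgroup G) :=
      hK4 ▸ Subgroup.card_dvd_of_le le_sup_left
    have h2 : Nat.card (zpowers a ⊔ zpowers s : Subgroup G) ≠ 4 := fun e =>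
      hlt.ne (Subgroup.eq_of_le_of_card_ge le_sup_left (by rw [e, hK4]))
    obtain ⟨c, hc⟩ := h1
    have := Nat.card_pos (α := (zpowers a ⊔ zpowers s : Subgroup G))
    omega
  have hinvK : ∀ x ∈ zpowers a, s * x * s⁻¹ = x⁻¹ := by
    rintro x hx
    obtain ⟨i, rfl⟩ := mem_zpowers_iff.1 hx
    rw [← conj_zpow, hinv, inv_zpow]
  have hel : ∀ x ∈ zpowers a, x = 1 ∨ x = a ∨ x = a ^ 2 ∨ x = a ^ 3 := by
    intro x hx
    obtain ⟨i, hi⟩ := mem_powers_iff_mem_zpowers.2 hx
    have hi' : a ^ (i % 4) = x := by rw [← ha4, pow_mod_orderOf]; exact hi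
    have : i % 4 = 0 ∨ i % 4 = 1 ∨ i % 4 = 2 ∨ i % 4 = 3 := by omega
    rcases this with e | e | e | e <;> rw [e] at hi' <;> subst hi' <;> simp
  -- the square of `a` is `α`
  have hαC : α ∈ C := Subgroup.mem_centralizer_singleton_iff.2 rfl
  have hαcent : ∀ c ∈ C, c * α = α * c := fun c hc => Subgroup.mem_centralizer_singleton_iff.1 hc
  have hidx : (zpowers a).relIndex C = 2 := by
    have e := ((zpowers a).subgroupOf C).card_mul_index
    rw [Nat.card_congr (Subgroup.subgroupOfEquivOfLe hK).toEquiv, hK4, h8] at e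
    show ((zpowers a).subgroupOf C).index = 2
    omega
  have hαa : α = a ^ 2 := by
    have hαK : α ∈ zpowers a := by
      by_contra hαK
      have hsK : α * s ∈ zpowers a := by
        have := (Subgroup.mul_mem_iff_of_index_two (H := (zpowers a).subgroupOf C) hidx
          (a := ⟨α, hαC⟩) (b := ⟨s, hsC⟩))
        simp only [Subgroup.mem_subgroupOf] at this
        exact this.2 (iff_of_false hαK hsa)
      have h1 := hinvK a (mem_zpowers a)
      have h2 : (α * s) * a * (α * s)⁻¹ = a := by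
        rcases hel _ hsK with e | e | e | e <;> rw [e] <;> group
      have h3 : (α * s) * a * (α * s)⁻¹ = a⁻¹ := by
        calc (α * s) * a * (α * s)⁻¹ = α * (s * a * s⁻¹) * α⁻¹ := by simp [mul_assoc]
          _ = a⁻¹ := by rw [h1, ← hαcent a⁻¹ (inv_mem ha), mul_inv_cancel_right]
      rw [h2] at h3
      have h4 : orderOf a ∣ 2 := orderOf_dvd_of_pow_eq_one (by
        rw [pow_two]; exact eq_inv_iff_mul_eq_one.1 h3)
      rw [ha4] at h4
      omega
    exact eq_of_invol_zpowers hαK (pow_mem (mem_zpowers a) 2) hα ha2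
  have hαK : α ∈ zpowers a := hαa ▸ pow_mem (mem_zpowers a) 2
  have hfused : ∀ u : G, orderOf u = 2 → IsConj u α := by
    intro u hu
    obtain ⟨g, hg⟩ := Invol.exists_conj_mem_of_no_index_two hno S (zpowers a) (by
      rw [hK4, hS, h8]) hu
    refine isConj_iff.2 ⟨g⁻¹, ?_⟩
    rw [inv_inv]
    refine eq_of_invol_zpowers hg hαK ?_ hα
    simpa [Invol.orderOf_conj, hu] using Invol.orderOf_conj g⁻¹ u
  have h : BSWall.Hyp α (zpowers a) s := by
    refine ⟨hα, ?_, hK, hαK, hs, hsC, hsa, hgen, ?_, hinvK, ?_,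
      fun x y hx hy => (hfused x hx).trans (hfused y hy).symm⟩
    · intro x hx y hy
      obtain ⟨i, rfl⟩ := mem_zpowers_iff.1 hx
      obtain ⟨j, rfl⟩ := mem_zpowers_iff.1 hy
      rw [← zpow_add, ← zpow_add, add_comm]
    · refine le_antisymm ?_ ?_
      · rintro x ⟨hx, hxs⟩
        have hxx : x * x = 1 := by
          have h1 := hinvK x hx
          rw [← Subgroup.mem_centralizer_singleton_iff.1 hxs, mul_inv_cancel_right] at h1
          exact eq_inv_iff_mul_eq_one.1 h1
        by_cases hx1 : x = 1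
        · rw [hx1]; exact one_mem _
        · rw [eq_of_invol_zpowers hx hαK (Invol.orderOf_eq_two hxx hx1) hα]; exact mem_zpowers α
      · rw [zpowers_le]
        exact ⟨hαK, Subgroup.mem_centralizer_singleton_iff.2 (hαcent s hsC).symm⟩
    · intro g hg
      rw [eq_bot_iff]
      rintro z ⟨hz, w, hw, hwz⟩
      rw [Subgroup.mem_bot]
      by_contra hz1
      refine hg ?_
      have hwz' : g * w * g⁻¹ = z := hwz
      have hw1 : w ≠ 1 := fun e => hz1 (by rw [← hwz', e]; simp)
      -- a suitable power of `w` is the involution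
      obtain ⟨j, hj2⟩ : ∃ j : ℕ, orderOf (w ^ j) = 2 := by
        rcases hel w hw with e | e | e | e
        · exact absurd e hw1
        · exact ⟨2, e ▸ ha2⟩
        · exact ⟨1, by rw [pow_one, e]; exact ha2⟩
        · refine ⟨2, ?_⟩
          rw [e, ← pow_mul, show 3 * 2 = 4 + 2 by rfl, pow_add, ← ha4, pow_orderOf_eq_one, one_mul]
          exact ha2
      have e1 : w ^ j = α := eq_of_invol_zpowers (pow_mem hw j) hαK hj2 hα
      have e2 : z ^ j = α := by
        refine eq_of_invol_zpowers (pow_mem hz j) hαK ?_ hα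
        rw [← hwz', conj_pow, Invol.orderOf_conj, hj2]
      rw [← hwz', conj_pow, e1] at e2
      exact Subgroup.mem_centralizer_singleton_iff.2 (mul_inv_eq_iff_eq_mul.1 e2)
  haveI := Fintype.ofFinite G
  have hg := h.card_G
  rw [hK4] at hg
  refine ⟨?_, ?_⟩
  · rcases h.char_main (by rw [hK4]; norm_num) with ⟨hI, -, -⟩ | ⟨hI, -, -⟩ <;>
      rw [hK4] at hI <;> rw [hI] at hg
    · exact Or.inl hg
    · exact Or.inr hg
  have hneut : Nontrivial G := ⟨⟨α, 1, Invol.inv_ne_one hα⟩⟩
  refine { exists_pair_ne := hneut.exists_pair_ne, eq_bot_or_eq_top_of_normal := fun N hN => ?_ }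
  by_cases h2 : 2 ∣ Nat.card N
  · right
    obtain ⟨⟨u, huN⟩, hu⟩ := exists_prime_orderOf_dvd_card' (G := N) 2 h2
    rw [Subgroup.orderOf_mk] at hu
    have hall : ∀ v, orderOf v = 2 → v ∈ N := by
      intro v hv
      obtain ⟨c, rfl⟩ := isConj_iff.1 ((hfused u hu).trans (hfused v hv).symm)
      exact hN.conj_mem u huN c
    have hCN : C ≤ N := by
      have hsN := hall s hs
      have hasN : a * s ∈ N := by
        refine hall _ (h.invol_of_notMem (mul_mem ha hsC) fun e => hsa ?_)
        exact (Subgroup.mul_mem_cancel_left _ (mem_zpowers a)).1 e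
      have haN : a ∈ N := by simpa using N.mul_mem hasN (N.inv_mem hsN)
      rw [← hgen]
      exact sup_le (zpowers_le.2 haN) (zpowers_le.2 hsN)
    obtain ⟨T, hT⟩ : ∃ T : Sylow 2 N, (T : Subgroup N) = (S : Subgroup G).subgroupOf N :=
      ⟨S.subtype (hS ▸ hCN), Sylow.coe_subtype _ _⟩
    haveI := hN
    have hfr := T.normalizer_sup_eq_top
    rw [hT, Subgroup.map_subgroupOf_eq_of_le (hS ▸ hCN), hS] at hfr
    rw [eq_top_iff, ← hfr, sup_le_iff]
    refine ⟨fun n hn => hCN ?_, le_rfl⟩
    -- `n` fixes the central involution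
    have hm : n * α * n⁻¹ ∈ C := ((Subgroup.mem_normalizer_iff.1 hn) α).1 hαC
    have hcen : ∀ c ∈ C, c * (n * α * n⁻¹) = n * α * n⁻¹ * c := by
      intro c hc
      have hc' : n⁻¹ * c * n ∈ C := ((Subgroup.mem_normalizer_iff''.1 hn) c).1 hc
      have := congrArg (fun z => n * z * n⁻¹) (hαcent _ hc')
      simpa [mul_assoc] using this
    have hK' : n * α * n⁻¹ ∈ zpowers a := by
      by_contra hnK
      have h1 := h.inverts hm hnK (mem_zpowers a)
      rw [← hcen a ha, mul_inv_cancel_right] at h1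
      have h4 : orderOf a ∣ 2 := orderOf_dvd_of_pow_eq_one (by
        rw [pow_two]; exact eq_inv_iff_mul_eq_one.1 h1)
      rw [ha4] at h4
      omega
    exact Subgroup.mem_centralizer_singleton_iff.2 (mul_inv_eq_iff_eq_mul.1
      (eq_of_invol_zpowers hK' hαK (by rw [Invol.orderOf_conj]; exact hα) hα))
  · left
    have hodd : ∀ x ∈ N, x * x = 1 → x = 1 := fun x hx hxx => by
      by_contra hx1
      exact h2 ((Invol.orderOf_eq_two hxx hx1) ▸ orderOf_dvd_natCard N hx)
    -- every involution inverts `N`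
    have hinvN : ∀ u, orderOf u = 2 → ∀ x ∈ N, u * x * u⁻¹ = x⁻¹ := by
      intro u hu x hx
      obtain ⟨c, hc⟩ := isConj_iff.1 (hfused u hu).symm
      let ψ : N →* N := ((MulAut.conj u).toMonoidHom.comp N.subtype).codRestrict _
        fun y => hN.conj_mem y y.2 u
      have hfp : MonoidHom.FixedPointFree ψ := by
        intro y hy
        by_contra hy1
        have h1 : u * (y : G) * u⁻¹ = y := congrArg Subtype.val hy
        have hm : c⁻¹ * (y : G) * c ∈ C := by
          rw [Subgroup.mem_centralizer_singleton_iff]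
          have := congrArg (fun z => c⁻¹ * z * c) (mul_inv_eq_iff_eq_mul.1 h1)
          rw [← hc] at this
          simpa [mul_assoc] using this.symm
        have hmN : c⁻¹ * (y : G) * c ∈ N := by simpa using hN.conj_mem y y.2 c⁻¹
        have hne : c⁻¹ * (y : G) * c ≠ 1 := fun e => hy1 (Subtype.ext (by
          have := congrArg (fun z => c * z * c⁻¹) e
          simpa [mul_assoc] using this))
        obtain ⟨j, hj⟩ := (hS ▸ S.isPGroup' : IsPGroup 2 C) ⟨_, hm⟩
        have hj' : (c⁻¹ * (y : G) * c) ^ 2 ^ j = 1 := congrArg Subtype.val hj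
        exact hne (orderOf_eq_one_iff.1 (Nat.eq_one_of_dvd_coprimes
          (Nat.Coprime.pow_left j ((Nat.Prime.coprime_iff_not_dvd Nat.prime_two).2 h2))
          (orderOf_dvd_of_pow_eq_one hj') (orderOf_dvd_natCard N hmN)))
      have hinvol : Function.Involutive ψ := fun y => Subtype.ext (by
        show u * (u * (y : G) * u⁻¹) * u⁻¹ = y
        simp [mul_assoc, Invol.inv_eq hu, Invol.mul_self_cancel hu, Invol.inv_mul_self hu])
      exact congrArg Subtype.val (congrFun (hfp.coe_eq_inv_of_involutive hinvol) ⟨x, hx⟩)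
    rw [eq_bot_iff]
    intro x hx
    rw [Subgroup.mem_bot]
    refine hodd x hx (eq_inv_iff_mul_eq_one.1 ?_)
    have h1 := hinvN α hα x hx
    have h2' := hinvN s hs x hx
    have hαs : orderOf (α * s) = 2 := h.invol_of_notMem (mul_mem hαC hsC)
      fun e => hsa ((Subgroup.mul_mem_cancel_left _ hαK).1 e)
    have h3 := hinvN _ hαs x hx
    calc x = α * (s * x * s⁻¹) * α⁻¹ := by
          rw [h2']
          have := congrArg (·⁻¹) h1
          simp [mul_assoc] at this ⊢
          exact this.symm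
      _ = α * s * x * (α * s)⁻¹ := by simp [mul_assoc]
      _ = x⁻¹ := h3

end Cfsg.Agent.FourCentral
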