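import Cfsg.Agent.FourCentral.Basic
import Mathlib.GroupTheory.Transfer
import Mathlib.GroupTheory.SpecificGroups.KleinFour

/-!
# A central four-group in an involution centraliser of a simple group
-/

set_option autoImplicit false

namespace Cfsg.Agent.FourCentral

open Subgroup

variable {G : Type*} [Group G]

/-- `C(t) = E × O` with `E` a four-group whose involutions are conjugate to `t` and `O` of odd
order. -/
structure Data (t : G) (E O : Subgroup G) : Prop where
  ht : orderOf t = 2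
  cardE : Nat.card E = 4
  sqE : ∀ e ∈ E, e * e = 1
  tE : t ∈ E
  hE : E ≤ centralizer ({t} : Set G)
  hO : O ≤ centralizer ({t} : Set G)
  comm : ∀ e ∈ E, ∀ y ∈ O, e * y = y * e
  odd : ¬ 2 ∣ Nat.card O
  decomp : ∀ c ∈ centralizer ({t} : Set G), ∃ e ∈ E, ∃ y ∈ O, c = e * y
  fused : ∀ e ∈ E, e ≠ 1 → IsConj t e

namespace Data

variable [Finite G] {t : G} {E O : Subgroup G} (h : Data t E O)
include h

theorem eq_one_of_mem {a : G} (haE : a ∈ E) (haO : a ∈ O) : a = 1 := by
  by_contra ha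
  refine h.odd ?_
  rw [← Invol.orderOf_eq_two (h.sqE a haE) ha]
  exact orderOf_dvd_natCard O haO

theorem decomp_unique {e e' y y' : G} (he : e ∈ E) (he' : e' ∈ E) (hy : y ∈ O) (hy' : y' ∈ O)
    (heq : e * y = e' * y') : e = e' ∧ y = y' := by
  have h1 : e'⁻¹ * e = y' * y⁻¹ := by
    rw [inv_mul_eq_iff_eq_mul, ← mul_assoc, eq_mul_inv_iff_mul_eq]; exact heq
  have h2 := h.eq_one_of_mem (E.mul_mem (E.inv_mem he') he)
    (h1 ▸ O.mul_mem hy' (O.inv_mem hy))
  have he2 : e = e' := (inv_mul_eq_one.1 h2).symm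
  subst he2
  exact ⟨rfl, mul_left_cancel heq⟩

theorem card_centralizer : Nat.card (centralizer ({t} : Set G)) = 4 * Nat.card O := by
  rw [← h.cardE, ← Nat.card_prod]
  refine (Nat.card_eq_of_bijective
    (fun p : E × O => (⟨p.1.1 * p.2.1, mul_mem (h.hE p.1.2) (h.hO p.2.2)⟩ : centralizer ({t} : Set G)))
    ⟨?_, ?_⟩).symm
  · rintro ⟨e, y⟩ ⟨e', y'⟩ heq
    obtain ⟨h1, h2⟩ := h.decomp_unique e.2 e'.2 y.2 y'.2 (congrArg Subtype.val heq)
    exact Prod.ext (Subtype.ext h1) (Subtype.ext h2)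
  · rintro ⟨c, hc⟩
    obtain ⟨e, he, y, hy, rfl⟩ := h.decomp c hc
    exact ⟨(⟨e, he⟩, ⟨y, hy⟩), rfl⟩

theorem mem_E_of_invol {u : G} (hu : u ∈ centralizer ({t} : Set G)) (hu2 : u * u = 1) : u ∈ E := by
  obtain ⟨e, he, y, hy, rfl⟩ := h.decomp u hu
  have h1 : e * e * (y * y) = 1 := by
    calc e * e * (y * y) = e * (e * y) * y := by simp [mul_assoc]
      _ = e * (y * e) * y := by rw [h.comm e he y hy]
      _ = 1 := by rw [← hu2]; simp [mul_assoc]
  rw [h.sqE e he, one_mul] at h1
  have hy1 : y = 1 := by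
    by_contra hy1
    exact h.odd ((Invol.orderOf_eq_two h1 hy1) ▸ orderOf_dvd_natCard O hy)
  rwa [hy1, mul_one]

end Data

/-- The set-up from a simple group with a four-group normal and of odd index in `C(x)`. -/
theorem exists_data [Finite G] [IsSimpleGroup G] {x : G} (hx : orderOf x = 2) {S0 : Subgroup G}
    (hle : S0 ≤ centralizer ({x} : Set G)) (hK : IsKleinFour S0)
    (hodd : ¬ 2 ∣ S0.relIndex (centralizer ({x} : Set G)))
    (hn : (S0.subgroupOf (centralizer ({x} : Set G))).Normal) :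
    ∃ O : Subgroup G, Data x S0 O ∧
      ∃ N : Subgroup G, N ≠ ⊤ ∧ Nat.card N = 12 * Nat.card O ∧ ¬ 2 ∣ N.index := by
  classical
  haveI : Fact (Nat.Prime 2) := ⟨Nat.prime_two⟩
  set C := centralizer ({x} : Set G) with hC
  have h4 : Nat.card S0 = 4 := hK.card_four
  have hsq : ∀ e ∈ S0, e * e = 1 := fun e he =>
    congrArg Subtype.val (IsKleinFour.mul_self (⟨e, he⟩ : S0))
  have hcomm : ∀ a ∈ S0, ∀ b ∈ S0, a * b = b * a := by
    intro a ha b hb
    have h1 := hsq _ (S0.mul_mem ha hb)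
    have h2 : a * b = (a * b)⁻¹ := eq_inv_of_mul_eq_one_left h1
    rw [h2, mul_inv_rev, inv_eq_of_mul_eq_one_right (hsq a ha),
      inv_eq_of_mul_eq_one_right (hsq b hb)]
  have hcardC : Nat.card C = 4 * S0.relIndex C := by
    rw [← h4, ← Nat.card_congr (Subgroup.subgroupOfEquivOfLe hle).toEquiv, Subgroup.relIndex,
      (S0.subgroupOf C).card_mul_index]
  have hxS0 : x ∈ S0 := by
    have hxC : x ∈ C := Subgroup.mem_centralizer_singleton_iff.2 rfl
    have : (⟨x, hxC⟩ : C) ∈ S0.subgroupOf C := by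
      rw [← QuotientGroup.eq_one_iff, ← orderOf_eq_one_iff]
      refine Nat.eq_one_of_dvd_coprimes ((Nat.Prime.coprime_iff_not_dvd Nat.prime_two).2 hodd)
        (orderOf_dvd_of_pow_eq_one ?_) (orderOf_dvd_natCard _)
      rw [← QuotientGroup.mk_pow,
        show (⟨x, hxC⟩ : C) ^ 2 = 1 from Subtype.ext (by
          show x ^ 2 = 1
          rw [pow_two, Invol.inv_mul_self hx]),
        QuotientGroup.mk_one]
    exact this
  have hne_comm : ∃ a b : G, a * b ≠ b * a := by
    by_contra! hab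
    letI : CommGroup G := { (inferInstance : Group G) with mul_comm := hab }
    have hp := (IsSimpleGroup.prime_card (α := G))
    have h4G : 4 ∣ Nat.card G := h4 ▸ S0.card_subgroup_dvd_card
    rcases hp.eq_one_or_self_of_dvd 4 h4G with h' | h'
    · omega
    · rw [← h'] at hp; norm_num at hp
  have hnoIdx : ∀ H : Subgroup G, H.index ≠ 2 := by
    intro H hH
    rcases IsSimpleGroup.eq_bot_or_eq_top_of_normal H (Subgroup.normal_of_index_eq_two hH) with e | e
    · obtain ⟨a, b, hab⟩ := hne_comm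
      have : Nat.card G = 2 := by rw [← H.card_mul_index, hH, e, Subgroup.card_bot]
      have h4G : 4 ∣ Nat.card G := h4 ▸ S0.card_subgroup_dvd_card
      omega
    · rw [e, Subgroup.index_top] at hH; omega
  have h8 : ¬ 8 ∣ Nat.card C := fun h8 => hodd (by
    rw [hcardC] at h8
    exact (Nat.mul_dvd_mul_iff_left (by norm_num : 0 < 4)).1 h8)
  have hS0p : IsPGroup 2 S0 := IsPGroup.of_card (n := 2) h4
  obtain ⟨S, hS⟩ := hS0p.exists_le_sylow
  have hSeq : (S : Subgroup G) = S0 := by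
    have hScard : Nat.card (S : Subgroup G) = 4 := by
      by_contra hne
      obtain ⟨H, hH⟩ := exists_index_two hx hle h4 h8 hxS0 S hS hne
      exact hnoIdx H hH
    exact (Subgroup.eq_of_le_of_card_ge hS (by rw [hScard, h4])).symm
  -- the centraliser of `x` centralises `S0`
  have hCS : ∀ c ∈ C, ∀ a ∈ S0, c * a * c⁻¹ = a := by
    intro c hc a ha
    have hm : ∀ d ∈ C, ∀ b ∈ S0, d * b * d⁻¹ ∈ S0 := fun d hd b hb =>
      hn.conj_mem ⟨b, hle hb⟩ hb ⟨d, hd⟩
    have hfix : ∀ d ∈ C, d * x * d⁻¹ = x := fun d hd => by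
      rw [Subgroup.mem_centralizer_singleton_iff.1 hd, mul_inv_cancel_right]
    by_cases ha1 : a = 1
    · simp [ha1]
    by_cases hax : a = x
    · rw [hax]; exact hfix c hc
    have hel : ∀ b ∈ S0, b = 1 ∨ b = x ∨ b = a ∨ b = x * a := by
      intro b hb
      by_contra! hb'
      haveI := Fintype.ofFinite S0
      have hx1 : x ≠ 1 := Invol.inv_ne_one hx
      have h5 : ({1, ⟨x, hxS0⟩, ⟨a, ha⟩, ⟨x, hxS0⟩ * ⟨a, ha⟩, ⟨b, hb⟩} : Finset S0).card = 5 := by
        have n1 : x * a ≠ 1 := fun e => hax (by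
          rw [← inv_eq_of_mul_eq_one_right e, Invol.inv_eq hx])
        rw [Finset.card_insert_of_notMem, Finset.card_insert_of_notMem,
          Finset.card_insert_of_notMem, Finset.card_insert_of_notMem, Finset.card_singleton]
        all_goals simp only [Finset.mem_insert, Finset.mem_singleton, Subtype.ext_iff,
          Subgroup.coe_mul, Subgroup.coe_one, not_or]
        · exact Ne.symm hb'.2.2.2
        · exact ⟨fun e => hx1 (mul_eq_right.1 e.symm), Ne.symm hb'.2.2.1⟩
        · exact ⟨Ne.symm hax, fun e => ha1 (mul_eq_left.1 e.symm), Ne.symm hb'.2.1⟩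
        · exact ⟨Ne.symm hx1, Ne.symm ha1, Ne.symm n1, Ne.symm hb'.1⟩
      have := Finset.card_le_univ
        ({1, ⟨x, hxS0⟩, ⟨a, ha⟩, ⟨x, hxS0⟩ * ⟨a, ha⟩, ⟨b, hb⟩} : Finset S0)
      rw [h5, ← Nat.card_eq_fintype_card, h4] at this
      omega
    have h2 : ∀ d ∈ C, d * d * a * (d * d)⁻¹ = a := by
      intro d hd
      have hda : d * a * d⁻¹ = a ∨ d * a * d⁻¹ = x * a := by
        rcases hel _ (hm d hd a ha) with e | e | e | e
        · exact absurd (conj_eq_one_iff.1 e) ha1
        · exfalso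
          rw [← hfix d hd] at e
          exact hax (mul_left_cancel (mul_right_cancel e))
        · exact Or.inl e
        · exact Or.inr e
      calc d * d * a * (d * d)⁻¹ = d * (d * a * d⁻¹) * d⁻¹ := by simp [mul_assoc]
        _ = a := by
          rcases hda with e | e
          · rw [e, e]
          · rw [e, show d * (x * a) * d⁻¹ = d * x * d⁻¹ * (d * a * d⁻¹) by simp [mul_assoc],
              hfix d hd, e, ← mul_assoc, Invol.inv_mul_self hx, one_mul]
    have hq : c ^ S0.relIndex C ∈ S0 := by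
      have hN : (S0.subgroupOf C).Normal := hn
      exact Subgroup.pow_index_mem (S0.subgroupOf C) (⟨c, hc⟩ : C)
    obtain ⟨m, hm'⟩ : Odd (S0.relIndex C) := by
      rw [← Nat.not_even_iff_odd, even_iff_two_dvd]; exact hodd
    have h3 : c ^ (2 * m) * a * (c ^ (2 * m))⁻¹ = a := by
      have := h2 _ (pow_mem hc m)
      rwa [← pow_add, ← two_mul] at this
    have h4' : c ^ S0.relIndex C * a * (c ^ S0.relIndex C)⁻¹ = a := by
      rw [hcomm _ hq _ ha, mul_inv_cancel_right]
    rw [hm', pow_succ'] at h4'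
    calc c * a * c⁻¹ = c * (c ^ (2 * m) * a * (c ^ (2 * m))⁻¹) * c⁻¹ := by rw [h3]
      _ = a := by simpa [mul_assoc] using h4'
  -- the complement
  have hSC : (S : Subgroup G) ≤ C := hSeq ▸ hle
  obtain ⟨SC, hSC'⟩ : ∃ SC : Sylow 2 C, (SC : Subgroup C) = S0.subgroupOf C :=
    ⟨S.subtype hSC, by rw [Sylow.coe_subtype, hSeq]⟩
  have hcent : normalizer ((SC : Subgroup C) : Set C) ≤ centralizer ((SC : Subgroup C) : Set C) := by
    intro c _
    rw [Subgroup.mem_centralizer_iff]
    intro a ha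
    rw [hSC'] at ha
    exact Subtype.ext (mul_inv_eq_iff_eq_mul.1 (hCS c c.2 a ha)).symm
  obtain ⟨f, hf⟩ : ∃ f : C →* (SC : Subgroup C), f.ker.IsComplement' (SC : Subgroup C) :=
    ⟨_, MonoidHom.ker_transferSylow_isComplement' SC hcent⟩
  obtain ⟨O, hO⟩ : ∃ O : Subgroup G, O = f.ker.map C.subtype := ⟨_, rfl⟩
  have hOC : O ≤ C := by rw [hO]; exact Subgroup.map_subtype_le _
  have hOcard : Nat.card O = S0.relIndex C := by
    rw [hO, ← Nat.card_congr (f.ker.equivMapOfInjective C.subtype Subtype.val_injective).toEquiv,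
      Subgroup.relIndex, ← hSC', hf.index_eq_card]
  have hOodd : ¬ 2 ∣ Nat.card O := hOcard ▸ hodd
  have hcEO : ∀ e ∈ S0, ∀ y ∈ O, e * y = y * e := fun e he y hy =>
    (mul_inv_eq_iff_eq_mul.1 (hCS y (hOC hy) e he)).symm
  have hdec : ∀ c ∈ C, ∃ e ∈ S0, ∃ y ∈ O, c = e * y := by
    intro c hc
    obtain ⟨⟨k, e⟩, hke, -⟩ := Subgroup.isComplement_iff_existsUnique.1 hf ⟨c, hc⟩
    have he : ((e : C) : G) ∈ S0 := by
      exact (SetLike.ext_iff.1 hSC' _).1 e.2
    have hk : ((k : C) : G) ∈ O := by rw [hO]; exact ⟨k, k.2, rfl⟩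
    exact ⟨_, he, _, hk, by rw [hcEO _ he _ hk]; exact (congrArg Subtype.val hke).symm⟩
  -- the normaliser of `S0`
  obtain ⟨N, hNdef⟩ : ∃ N : Subgroup G, N = normalizer (S0 : Set G) := ⟨_, rfl⟩
  have hCN : C ≤ N := by
    intro c hc
    rw [hNdef, Subgroup.mem_normalizer_iff]
    intro a
    refine ⟨fun ha => (hCS c hc a ha).symm ▸ ha, fun ha => ?_⟩
    have e := hCS c⁻¹ (inv_mem hc) _ ha
    simp only [mul_assoc, inv_mul_cancel_left, inv_inv] at e
    rw [inv_mul_cancel, mul_one] at e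
    rw [e]
    simpa [mul_assoc] using ha
  have hS0N : S0 ≤ N := hNdef ▸ Subgroup.le_normalizer
  have hNfix : ¬ N ≤ C := by
    intro hNC
    have hc : normalizer ((S : Subgroup G) : Set G) ≤ centralizer ((S : Subgroup G) : Set G) := by
      rw [hSeq, ← hNdef]
      intro g hg
      rw [Subgroup.mem_centralizer_iff]
      exact fun a ha => (mul_inv_eq_iff_eq_mul.1 (hCS g (hNC hg) a ha)).symm
    have hker := MonoidHom.ker_transferSylow_isComplement' S hc
    rcases IsSimpleGroup.eq_bot_or_eq_top_of_normal _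
      (MonoidHom.normal_ker (MonoidHom.transferSylow S hc)) with e | e
    · have h1 : Nat.card G = Nat.card (S : Subgroup G) := by
        rw [← hker.card_mul, e, Subgroup.card_bot, one_mul]
      obtain ⟨a, b, hab⟩ := hne_comm
      have : S0 = ⊤ := Subgroup.eq_top_of_card_eq S0 (by rw [h1, hSeq])
      exact hab (hcomm a (this ▸ mem_top a) b (this ▸ mem_top b))
    · have h1 : Nat.card G = Nat.card G * 4 := by
        conv_lhs => rw [← hker.card_mul, e, Subgroup.card_top, hSeq, h4]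
      have : 0 < Nat.card G := Nat.card_pos
      omega
  -- the action of `N` on the three involutions
  let X := {a : S0 // a ≠ 1}
  letI act : MulAction N X :=
    { smul := fun g a => ⟨⟨g.1 * a.1.1 * g.1⁻¹,
        ((Subgroup.mem_normalizer_iff.1 (hNdef ▸ g.2)) _).1 a.1.2⟩,
        fun e => a.2 (Subtype.ext (conj_eq_one_iff.1 (congrArg Subtype.val e)))⟩
      one_smul := fun a => Subtype.ext (Subtype.ext (by
        show ((1 : N) : G) * a.1.1 * ((1 : N) : G)⁻¹ = a.1.1
        simp))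
      mul_smul := fun l m a => Subtype.ext (Subtype.ext (by
        show (l.1 * m.1) * a.1.1 * (l.1 * m.1)⁻¹ = l.1 * (m.1 * a.1.1 * m.1⁻¹) * l.1⁻¹
        simp [mul_assoc])) }
  let x0 : X := ⟨⟨x, hxS0⟩, fun e => Invol.inv_ne_one hx (congrArg Subtype.val e)⟩
  have hstab : MulAction.stabilizer N x0 = C.subgroupOf N := by
    ext g
    rw [MulAction.mem_stabilizer_iff, Subgroup.mem_subgroupOf, Subgroup.mem_centralizer_singleton_iff,
      ← mul_inv_eq_iff_eq_mul]
    exact ⟨fun e => congrArg (fun z : X => z.1.1) e, fun e => Subtype.ext (Subtype.ext e)⟩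
  haveI := Fintype.ofFinite S0
  have hXcard : Nat.card X = 3 := by
    simp [X, Nat.card_eq_fintype_card, Fintype.card_subtype_compl]
  haveI := Fintype.ofFinite X
  have horb : Nat.card (MulAction.orbit N x0) * Nat.card C = Nat.card N := by
    haveI := Fintype.ofFinite N
    rw [← Nat.card_congr (Subgroup.subgroupOfEquivOfLe hCN).toEquiv, ← hstab, ← Nat.card_prod]
    exact Nat.card_congr (MulAction.orbitProdStabilizerEquivGroup N x0)
  have hNodd : ¬ 2 ∣ N.index := fun hd => S.not_dvd_index (by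
    rw [hSeq]; exact hd.trans (Subgroup.index_dvd_of_le hS0N))
  have horb3 : Nat.card (MulAction.orbit N x0) = 3 := by
    have h1 : Nat.card (MulAction.orbit N x0) ≤ 3 :=
      hXcard ▸ Nat.card_le_card_of_injective _ Subtype.val_injective
    haveI : Nonempty (MulAction.orbit N x0) := ⟨⟨x0, MulAction.mem_orbit_self x0⟩⟩
    have hpos : 0 < Nat.card (MulAction.orbit N x0) := Nat.card_pos
    obtain ⟨j, hj⟩ := IsPGroup.iff_card.1 S.isPGroup'
    interval_cases hor : Nat.card (MulAction.orbit N x0)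
    · exfalso
      rw [one_mul] at horb
      exact hNfix (le_of_eq (Subgroup.eq_of_le_of_card_ge hCN (le_of_eq horb.symm)).symm)
    · exfalso
      have h8N : 8 ∣ Nat.card N := by rw [← horb, hcardC]; exact ⟨_, by ring⟩
      have h8G : 8 ∣ 4 * (S : Subgroup G).index := by
        have e := (S : Subgroup G).card_mul_index
        rw [hSeq, h4] at e
        rw [hSeq, e]
        exact h8N.trans N.card_subgroup_dvd_card
      exact S.not_dvd_index ((Nat.mul_dvd_mul_iff_left (by norm_num : 0 < 4)).1 h8G)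
    · rfl
  have hNcard : Nat.card N = 12 * Nat.card O := by
    rw [← horb, horb3, hcardC, hOcard]; ring
  refine ⟨O, ⟨hx, h4, hsq, hxS0, hle, hOC, hcEO, hOodd, hdec, ?_⟩, N, ?_, hNcard, hNodd⟩
  · intro e he he1
    have huniv : MulAction.orbit N x0 = Set.univ := Set.eq_of_subset_of_ncard_le (Set.subset_univ _)
      (by rw [Set.ncard_univ, hXcard, ← Nat.card_coe_set_eq, horb3]) (Set.toFinite _)
    obtain ⟨g, hg⟩ : (⟨⟨e, he⟩, fun e' => he1 (congrArg Subtype.val e')⟩ : X) ∈
        MulAction.orbit N x0 := huniv ▸ Set.mem_univ _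
    exact isConj_iff.2 ⟨g.1, congrArg (fun z : X => z.1.1) hg⟩
  · intro htop
    obtain ⟨a, b, hab⟩ := hne_comm
    rcases IsSimpleGroup.eq_bot_or_eq_top_of_normal S0
      (Subgroup.normalizer_eq_top_iff.1 (hNdef ▸ htop)) with e | e
    · rw [e, Subgroup.card_bot] at h4; omega
    · exact hab (hcomm a (e ▸ mem_top a) b (e ▸ mem_top b))

end Cfsg.Agent.FourCentral
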